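import Cfsg.Agent.OD.Pre
import Cfsg.Agent.H8.C3K
import Cfsg.Agent.L.J2g
import Cfsg.Agent.L.Cnt
/-! Involutions of the double cover of `Sp₆(2)`. -/
set_option autoImplicit false
set_option maxRecDepth 100000
set_option Elab.async false
namespace CfH8.C3
open CfH6 CfL CfH8.ON Subgroup CfH9

abbrev N : Type := C3N.G
abbrev el : ℕ → N := C3N.el
instance : Finite N := finG.1
noncomputable def RN : Rep NT el := Classical.choice (NT_act.rep : Nonempty (Rep NT el))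

theorem topN : Nat.card N = 2903040 ∧ ∀ g : N, (∀ p : RN.Pt, p.1 ∈ [0, 1, 2, 3] → g • p = p) → g = 1 := by
  obtain ⟨bs, e, hl⟩ := chain_lw RN 8 Nch Nch_ok
  obtain ⟨h1, h2⟩ := hl.top finG.2
  exact ⟨h1, fun g hg => h2 g fun b hb => hg b (by
    have : b.1 ∈ Nch.map Lev.b := e ▸ List.mem_map.2 ⟨b, hb, rfl⟩
    exact this)⟩

noncomputable def cE (u v : List ℕ) : Bool :=
  allLt 16 u && allLt 16 v && [0, 1, 2, 3].all fun b => Nat.beq (NT.trL u b) (NT.trL v b)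
noncomputable def cNe (u v : List ℕ) : Bool :=
  allLt 16 u && allLt 16 v && [0, 1, 2, 3].any fun b => !Nat.beq (NT.trL u b) (NT.trL v b)

theorem cE_ok (u v : List ℕ) (h : cE u v = true) : evw el u = evw el v := by
  simp only [cE, Bool.and_eq_true] at h
  refine (mul_inv_eq_one.1 (topN.2 _ fun p hp => ?_)).symm
  rw [mul_smul, ← eq_inv_smul_iff]
  exact Subtype.ext ((RN.word (allLt_sound h.1.1) p).trans ((Nat.eq_of_beq_eq_true (List.all_eq_true.1 h.2 _ hp)).trans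
    (RN.word (allLt_sound h.1.2) p).symm))

theorem tr_eq {u v : List ℕ} (hu : allLt 16 u = true) (hv : allLt 16 v = true) (e : evw el u = evw el v) {b : ℕ}
    (hb : b < 240) : NT.trL u b = NT.trL v b :=
  (RN.word (allLt_sound hu) ⟨b, hb⟩).symm.trans (e ▸ RN.word (allLt_sound hv) ⟨b, hb⟩)

theorem cNe_ok (u v : List ℕ) (h : cNe u v = true) : evw el u ≠ evw el v := fun e => by
  simp only [cNe, Bool.and_eq_true, List.any_eq_true] at h
  obtain ⟨⟨h1, h2⟩, b, hb, h3⟩ := h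
  rw [tr_eq h1 h2 e (b := b) (by simp at hb; omega), Nat.beq_refl] at h3
  cases h3

theorem iv_ok (w : List ℕ) (h : allLt 16 w = true) : evw el (invw C3N.il w) = (evw el w)⁻¹ :=
  evw_invw _ _ 16 C3N.hinv w (allLt_sound h)

theorem cj_ok (k u v : List ℕ) (h : (allLt 16 k && cE (k ++ u ++ invw C3N.il k) v) = true) :
    evw el k * evw el u * (evw el k)⁻¹ = evw el v := by
  rw [Bool.and_eq_true] at h
  rw [← cE_ok _ _ h.2, evw_append, evw_append, iv_ok k h.1]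

theorem cm_ok (u v : List ℕ) (h : cE (u ++ v) (v ++ u) = true) : evw el u * evw el v = evw el v * evw el u := by
  rw [← evw_append, cE_ok _ _ h, evw_append]

theorem emb {T : Tb} {il : List ℕ} {rels : List (List ℕ)} (g : T.Good il rels) (W : List (List ℕ)) (ls : List Lev)
    (us : List (List ℕ)) (h0 : ((((List.range T.nc).map fun x => [x, il.getD x 0]) ++ rels).all
      fun r => cE (subst W r) []) = true) (h1 : chainOk NT 8 ls = true) (h2 : allW ls = us.map (subst W))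
    (h3 : us.all (allLt T.nc) = true) (h4 : (ls.map Lev.c).prod = T.N) :
    ∃ ι : TB g →* N, Function.Injective ι ∧ (∀ a, ι a = evw el (subst W (T.wl a.1))) ∧
      ∀ k < T.nc, ι (tel g k) = byW el W k := by
  have h5 : ∀ r ∈ ((List.range T.nc).map fun x => [x, il.getD x 0]) ++ rels, evw (byW el W) r = 1 := fun r hr => by
    rw [← evw_subst]; exact cE_ok _ _ (List.all_eq_true.1 h0 r hr)
  obtain ⟨ι, p1, p2⟩ := TB.exists_hom g _ (inv_of_rels fun r hr => h5 r (List.mem_append_left _ hr))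
    fun r hr => h5 r (List.mem_append_right _ hr)
  refine ⟨ι, ?_, fun a => by rw [p1, evw_subst], fun k hk => hom_tel p2 hk⟩
  obtain ⟨bs, -, hl⟩ := chain_lw RN 8 ls h1
  have := hl.ge.trans (card_le_of_le (K := ι.range) ((closure_le _).2 (by
    rintro _ ⟨w, hw, rfl⟩
    rw [h2] at hw
    obtain ⟨u, hu, rfl⟩ := List.mem_map.1 hw
    rw [evw_subst]
    exact evw_mem (K := ι.range) (fun x hx => ⟨_, hom_tel p2 hx⟩) (allLt_all h3 u hu))))
  exact fun a b e => (ι.rangeRestrict_surjective.bijective_of_nat_card_le (by rw [TB.card, ← h4]; exact this)).1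
    (Subtype.ext e)

def JW : List (List ℕ) := [[4, 10, 12, 8, 14, 12], [2, 4, 2, 12, 8, 14, 12], [2, 4, 2, 6, 8, 10, 6, 4, 2, 14], [2, 4, 2, 6, 8, 6, 10, 6, 4, 2, 8, 12, 8, 6, 10, 14, 12, 8, 6, 4, 2, 11], [6, 8, 6, 10, 6, 4, 12, 8, 6, 10, 14, 12, 8, 6], [6, 4, 8, 6, 4, 10, 6, 4, 8, 6, 12, 8, 6, 4, 10, 6, 8, 12, 14, 12, 8, 6, 4, 10, 6, 8, 13], [2, 8, 12, 8, 14, 12, 9], [2, 4, 2, 10, 12, 8, 6, 4, 10, 6, 8, 12, 14, 12, 8, 6, 4, 2, 10, 6, 4, 8, 12]]
def TW : List (List ℕ) := [[2, 8, 10], [2, 8, 14], [2, 12, 8, 14, 13], [4, 6, 4, 8, 6, 4, 10, 6, 4, 8, 6], [4, 6, 4, 8, 6, 10, 6, 4, 2, 8, 6, 4, 10, 12, 8, 6, 4, 10, 6, 14, 12, 8, 6, 4, 10, 6], [4, 8, 12, 8, 6, 4, 10, 6, 8, 12, 14, 12, 8, 6, 4, 10, 6, 8, 13], [6, 4, 8, 6, 10, 6, 4, 8, 6, 10, 12, 8, 6, 4, 10, 6, 14, 12, 8, 6, 4, 10, 7]]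
noncomputable def chQ : List Lev := [⟨[[4, 10, 12, 8, 14, 12]], nat_lit 0, 192, nat_lit 2, [(nat_lit 191, nat_lit 0x8b0d4c9230d33b2901f9ab2ace7269695b4cbb88e2585ca2c0e545a43a14ea601b22cabf6fe8a6288a775b3af0bc310cd8dd791e475720c8205a3566a769d3c57cb5479988f93e0f849139294701c1992c0b29f67c9f95d57105330cd6eba1e892c8980902009b481906019a24a0634140593cd94da996649918a50542a0282775dc7731a5b6f4bd5e0a96449142d8d23574901408310c030d1475461195a99565740d09354d135a48e93a0e98e76c9db0dc369a11a0c8391545116e338d962592f9c1701c2c731e20482d2748d265c97825090254a12a8260a715c47185515056956563d4f43d9bd6f1bed475000)]⟩,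
  ⟨[[6, 4, 8, 6, 4, 10, 6, 4, 8, 6, 12, 8, 6, 4, 10, 6, 8, 12, 14, 12, 8, 6, 4, 10, 6, 8, 13, 2, 8, 12, 8, 14, 12, 9], [2, 4, 2, 12, 8, 14, 12, 4, 10, 12, 8, 14, 12, 2, 4, 2, 12, 8, 14, 12, 6, 8, 6, 10, 6, 4, 12, 8, 6, 10, 14, 12, 8, 6, 2, 4, 2, 6, 8, 10, 6, 4, 2, 14]], nat_lit 2, 24, nat_lit 1, [(nat_lit 23, nat_lit 0x395869c328c79a11ddaef4120102c36ab58783ef67be23120402)]⟩]
noncomputable def chT : List Lev := [⟨[[2, 8, 10], [2, 8, 14], [2, 12, 8, 14, 13], [4, 6, 4, 8, 6, 4, 10, 6, 4, 8, 6]], nat_lit 0, 64, nat_lit 3, [(nat_lit 63, nat_lit 0xb1107aa0404decbda0c50f59d61b20c99130a604c6f05e2f2ae552424b0c5188304600c6d0ba0f411c6cdb9af34e68efc634c518831aa6d4ca985375eabea1242085685d09a1896d2d2584b9b0f616c1d860080080000)]⟩,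
  ⟨[[2, 12, 8, 14, 13, 2, 8, 10, 2, 12, 8, 14, 13]], nat_lit 1, 2, nat_lit 2, [(nat_lit 1, nat_lit 0x1)]⟩,
  ⟨[[2, 8, 10, 4, 6, 4, 8, 6, 10, 6, 4, 2, 8, 6, 4, 10, 12, 8, 6, 4, 10, 6, 14, 12, 8, 6, 4, 10, 6, 2, 8, 10], [2, 8, 10, 6, 4, 8, 6, 10, 6, 4, 8, 6, 10, 12, 8, 6, 4, 10, 6, 14, 12, 8, 6, 4, 10, 7, 4, 6, 4, 8, 6, 10, 6, 4, 2, 8, 6, 4, 10, 12, 8, 6, 4, 10, 6, 14, 12, 8, 6, 4, 10, 6]], nat_lit 2, 8, nat_lit 1, [(nat_lit 7, nat_lit 0x48388a0037360402)]⟩]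
theorem exQ : ∃ ι : QG →* N, Function.Injective ι ∧ (∀ a, ι a = evw el (subst JW (QT.wl a.1))) ∧
    ∀ k < QT.nc, ι (tel QT_g k) = byW el JW k :=
  emb QT_g JW chQ [[0], [5, 6], [1, 0, 1, 4, 2]] (by decide +kernel) (by decide +kernel) (by decide +kernel) rfl rfl
theorem exT : ∃ ι : TG →* N, Function.Injective ι ∧ (∀ a, ι a = evw el (subst TW (TT.wl a.1))) ∧
    ∀ k < TT.nc, ι (tel TT_g k) = byW el TW k :=
  emb TT_g TW chT [[0], [1], [2], [3], [2, 0, 2], [0, 4, 0], [0, 6, 4]] (by decide +kernel) (by decide +kernel) (by decide +kernel) rfl rfl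
noncomputable def ιQ : QG →* N := exQ.choose
noncomputable def ιT : TG →* N := exT.choose
noncomputable def qw (a : QG) : List ℕ := subst JW (QT.wl a.1)
theorem ιQ_inj : Function.Injective ιQ := exQ.choose_spec.1
theorem ιQ_w (a : QG) : ιQ a = evw el (qw a) := exQ.choose_spec.2.1 a
theorem ιQ_eq (a : QG) (w : List ℕ) (h : cE (qw a) w = true) : ιQ a = evw el w := (ιQ_w a).trans (cE_ok _ _ h)

def sw : List ℕ := [8, 10, 14]
def uw : List ℕ := [4, 6, 4, 8, 6, 10, 6, 4, 8, 6, 10]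
def yw : List ℕ := [4, 12, 8, 6, 4, 10, 6, 8, 12, 14, 12, 8, 6, 4, 10, 6, 8, 12, 15]
noncomputable def tt : N := evw el [0]
noncomputable def ss : N := evw el sw
noncomputable def uu : N := evw el uw
noncomputable def yy : N := evw el yw
theorem tt_eq : tt = el 0 := by simp [tt]

theorem ttc (g : N) : g * tt = tt * g := mem_Cx.1 ((C3N.htop.ge.trans (gensub_le (K := Cx(tt)) fun x hx => mem_Cx.2 (by
  have : ∀ x < 16, cE ([x] ++ [0]) ([0] ++ [x]) = true := by decide +kernel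
  simpa [tt] using cm_ok [x] [0] (this x hx)))) (mem_top g))

theorem conj_tt {x : N} (h : IsConj tt x) : x = tt := by
  obtain ⟨c, rfl⟩ := isConj_iff.1 h
  exact cj1 (ttc c)

theorem tt2 : tt * tt = 1 := (evw_append ..).symm.trans (cE_ok _ [] (by decide +kernel))
theorem ss2 : ss * ss = 1 := (evw_append ..).symm.trans (cE_ok _ [] (by decide +kernel))
theorem uu2 : uu * uu = 1 := (evw_append ..).symm.trans (cE_ok _ [] (by decide +kernel))
theorem yy2 : yy * yy = 1 := (evw_append ..).symm.trans (cE_ok _ [] (by decide +kernel))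
theorem uu1 : uu ≠ 1 := cNe_ok _ [] (by decide +kernel)
theorem uut : uu ≠ tt := cNe_ok _ _ (by decide +kernel)
theorem sst : ss ≠ tt := cNe_ok _ _ (by decide +kernel)
theorem cuy : IsConj uu yy := isConj_mk _ (cj_ok [13, 15, 9, 13, 7, 11, 9, 7] _ _ (by decide +kernel))
theorem cuuy : IsConj uu (uu * yy) := isConj_mk _ ((cj_ok [3, 5, 7, 9, 13, 15, 11, 7, 9, 13, 5, 3] _ (uw ++ yw) (by decide +kernel)).trans (evw_append ..))
theorem cuut : IsConj uu (uu * tt) := isConj_mk _ ((cj_ok [9] _ (uw ++ [0]) (by decide +kernel)).trans (evw_append ..))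

noncomputable def key (u : List ℕ) : ℕ := Nat.add (NT.trL u 0) (Nat.mul 256 (Nat.add (NT.trL u 1)
  (Nat.mul 256 (Nat.add (NT.trL u 2) (Nat.mul 256 (NT.trL u 3))))))
noncomputable def cE1 (c : ℕ) : List ℕ := invw C3N.il (Tab.dec 30 c) ++ sw ++ Tab.dec 30 c
noncomputable def tst (c : ℕ) : Bool := allLt 16 (Tab.dec 30 c) && allLt 16 (cE1 c) &&
  (cNe (cE1 c ++ uw) (uw ++ cE1 c) || cNe (cE1 c ++ yw) (yw ++ cE1 c) || cE (cE1 c) sw || cE (cE1 c) (sw ++ [0]))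
noncomputable def clsOk (l : List ℕ) : ℕ → Bool :=
  List.rec (fun _ => true) (fun c _ ih a => frc (key (cE1 c)) fun k => Nat.blt a k && tst c && ih k) l

theorem clsOk_spec (l : List ℕ) : ∀ a, clsOk l a = true → (∀ c ∈ l, a < key (cE1 c) ∧ tst c = true) ∧
    (l.map fun c => evw el (cE1 c)).Nodup := by
  induction l with
  | nil => exact fun _ _ => ⟨forall_nil, List.nodup_nil⟩
  | cons c l ih =>
    intro a h
    have e : clsOk (c :: l) a = (Nat.blt a (key (cE1 c)) && tst c && clsOk l (key (cE1 c))) :=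
      frc_eq (key (cE1 c)) fun k => Nat.blt a k && tst c && clsOk l k
    rw [e, Bool.and_eq_true, Bool.and_eq_true] at h
    obtain ⟨h1, h2⟩ := ih _ h.2
    refine ⟨forall_cons ⟨blt1 h.1.1, h.1.2⟩ fun d hd => ⟨(blt1 h.1.1).trans (h1 d hd).1, (h1 d hd).2⟩,
      List.nodup_cons.2 ⟨fun hc => ?_, h2⟩⟩
    obtain ⟨d, hd, e⟩ := List.mem_map.1 hc
    obtain ⟨h3, h4⟩ := h1 d hd
    have h5 := h.1.2
    simp only [tst, Bool.and_eq_true] at h4 h5
    have k := fun b hb => tr_eq h4.1.2 h5.1.2 e (b := b) hb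
    rw [key, key, k 0 (by decide), k 1 (by decide), k 2 (by decide), k 3 (by decide)] at h3
    exact lt_irrefl _ h3

noncomputable def codes : List ℕ := [nat_lit 0xb579d7957, nat_lit 0xdf57b3579d79357, nat_lit 0xb579d3573, nat_lit 0xdf97b579d79357, nat_lit 0xf579d957, nat_lit 0xb579df7b579d79357, nat_lit 0xf579d357, nat_lit 0x9dfd97b579d579357, nat_lit 0x3579dfb3579d579357, nat_lit 0x579dfb79d79357, nat_lit 0xb7957b3579d79357, nat_lit 0xf9db7957b3579d79357, nat_lit 0xfb579d7b357, nat_lit 0xb579d579357, nat_lit 0xb3579d9357, nat_lit 0x579df97b3579d579357, nat_lit 0xdfb3579d579357, nat_lit 0x0, nat_lit 0x79dfb79d57b357, nat_lit 0xdf3579db7957b3579d579357, nat_lit 0x3579df7b579d579357, nat_lit 0x9dfb79d9357, nat_lit 0xd9357, nat_lit 0xfd97, nat_lit 0x579d7957, nat_lit 0xdf7b579d79357, nat_lit 0xb79d79357, nat_lit 0x579db357, nat_lit 0x79df957b3579d579357, nat_lit 0x79df579d579357, nat_lit 0x7b57, nat_lit 0xdf79d357,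 nat_lit 0xdf79d7957, nat_lit 0x57b3579d7b357, nat_lit 0xfd579357, nat_lit 0x9dfd97b579d7b357, nat_lit 0xb3579d57, nat_lit 0xfb579d957, nat_lit 0xd97b3579d79357, nat_lit 0xf3579d79357, nat_lit 0xf79db7957b3579d579357, nat_lit 0x9d7957b3579d579357, nat_lit 0x7b3579d579357, nat_lit 0x79db57, nat_lit 0x79d357, nat_lit 0xdfb579d7957, nat_lit 0xf97b3579d79357, nat_lit 0xfdb7957b3579d579357, nat_lit 0xdf97b579d57b357, nat_lit 0x579dfd97b579d579357, nat_lit 0x7b579df7b579d579357, nat_lit 0x7b579d3573, nat_lit 0xf97b579d357, nat_lit 0xd57, nat_lit 0xfb79d7b57, nat_lit 0xdfd97b3579d79357, nat_lit 0xf9db57, nat_lit 0xf79d9357, nat_lit 0x9d73, nat_lit 0xf579d57b357, nat_lit 0xdf9d7b357, nat_lit 0x3579d7, nat_lit 0x97b579d7b357, nat_lit 0xd957b3579d9357, nat_lit 0xdfd97b579db357, nat_lit 0x9df97b3579d579357, nat_lit 0x9df7b579d57b357, nat_lit 0xfd97b3579d57b357, nat_lit 0xf7b579d57b357, nat_lit 0x9d57b357, nat_lit 0xd7957b3579d79357,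 nat_lit 0xb579d7b57, nat_lit 0xb579d357, nat_lit 0x579dfb579d79357, nat_lit 0xdf97b579d7b357, nat_lit 0x9d79357, nat_lit 0x9d573, nat_lit 0xdfb579d579357, nat_lit 0xdf97b3579d579357, nat_lit 0xdf79d957, nat_lit 0x3579d357, nat_lit 0x9df57b3579d579357, nat_lit 0x9dfd97b579d57b357, nat_lit 0x57b357, nat_lit 0x7b579df7b579d79357, nat_lit 0xdf79db7957b3579d579357, nat_lit 0xdf9d579357, nat_lit 0x7b579d57b357, nat_lit 0xb3579d579357, nat_lit 0xfdb357, nat_lit 0xfd7b57, nat_lit 0x79df579d79357, nat_lit 0xdf9db7957b3579d579357, nat_lit 0x3573, nat_lit 0xb79df579d579357, nat_lit 0x97b579d9357, nat_lit 0xdfd97b579d7b357, nat_lit 0xdf7b3579d79357, nat_lit 0xb3579d7b357, nat_lit 0x579dfb79d57b357, nat_lit 0x79dfb79d7b357, nat_lit 0x79357, nat_lit 0xdf579db7957b3579d579357, nat_lit 0xdf7b579d7b357, nat_lit 0xb79d7b357, nat_lit 0x579dfb79d7b357, nat_lit 0xf957b3579d579357, nat_lit 0x9dfd957b3579d579357, nat_lit 0xb3579dfb579d579357,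 nat_lit 0xfb579d79357, nat_lit 0xb79df579d79357, nat_lit 0xb3579db357, nat_lit 0xb579df97b579d579357, nat_lit 0xb579d57b357, nat_lit 0x79dfb79d579357, nat_lit 0x3, nat_lit 0x9d7957b3579d57b357, nat_lit 0x7b3579d57b357, nat_lit 0x3579df9d7957b3579d579357, nat_lit 0x3579df7b579d57b357, nat_lit 0x9dfb79db357, nat_lit 0xdb357, nat_lit 0xfdb7, nat_lit 0x579d7b57, nat_lit 0x579d9357, nat_lit 0x79db7957b3579d79357, nat_lit 0x9df579d9357, nat_lit 0x79dfd7957b3579d579357, nat_lit 0xdfd7957b3579d579357, nat_lit 0xdf97b579d579357, nat_lit 0x79d3573, nat_lit 0x79d957, nat_lit 0x9df3579d579357, nat_lit 0x7957, nat_lit 0x9dfb79d7957, nat_lit 0x7957b3579d9357, nat_lit 0xdf79d7b57, nat_lit 0x3579d957, nat_lit 0x9dfd97b579d79357, nat_lit 0xfb79d357, nat_lit 0xfd57b357, nat_lit 0x57b3579d79357, nat_lit 0xf7b579d579357, nat_lit 0xfd97b3579d579357, nat_lit 0x579dfd97b579d57b357, nat_lit 0x579df57b3579d579357, nat_lit 0xdf957b3579d79357,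 nat_lit 0x9d579357, nat_lit 0xd573, nat_lit 0xfb79d7957, nat_lit 0x7b579d957, nat_lit 0xd97b3579d7b357, nat_lit 0xfd7957b3579d9357, nat_lit 0xf9d957, nat_lit 0xf9d357, nat_lit 0x97b579d79357, nat_lit 0x97b3579d357, nat_lit 0x7b579d357, nat_lit 0xf79db357, nat_lit 0x9d7, nat_lit 0xdfd97b579d9357, nat_lit 0xdf97b3579d9357, nat_lit 0x9df7b579d579357, nat_lit 0xb79df97b579d79357, nat_lit 0xf579d579357, nat_lit 0xdf9d79357, nat_lit 0xfd7b357, nat_lit 0x9df579d57b357, nat_lit 0x9dfd97b3579d79357, nat_lit 0xfd957, nat_lit 0xdf97b579d357, nat_lit 0xb579dfb579d9357, nat_lit 0x9df79d79357, nat_lit 0xf97b579d579357, nat_lit 0x9d7b357, nat_lit 0x9d57, nat_lit 0xdfb579d57b357, nat_lit 0xdb7957b3579d9357, nat_lit 0x79dfd97b3579d579357, nat_lit 0xf9db357, nat_lit 0x79df7b579d57b357, nat_lit 0xf9d57, nat_lit 0xb3579dfd97b579d579357, nat_lit 0xf9d7, nat_lit 0xb579d957, nat_lit 0x3579df957b3579d579357, nat_lit 0xdfb79d7b357,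 nat_lit 0x7b579d79357, nat_lit 0x957b3579d7b357, nat_lit 0xfd97b3579d9357, nat_lit 0xdf3579d579357, nat_lit 0x9df9d7957b3579d579357, nat_lit 0x357, nat_lit 0x9dfb3579d579357, nat_lit 0x79df57b3579d579357, nat_lit 0x579357, nat_lit 0xdf9d57b357, nat_lit 0x79df9d7957b3579d579357, nat_lit 0x7b3579df7b579d579357, nat_lit 0xdf9d7957, nat_lit 0xd97b579d7957, nat_lit 0x3579dfb79d57b357, nat_lit 0x57b3579d579357, nat_lit 0xf9d7957b3579d79357, nat_lit 0x9df79d57b357, nat_lit 0xb79d57b357, nat_lit 0xf7b579db357, nat_lit 0xdf579d9357, nat_lit 0x9df97b579d57b357, nat_lit 0xb79df7b579d79357, nat_lit 0x9d357, nat_lit 0xf97b579d7b357, nat_lit 0x9d7957, nat_lit 0x79df579d9357, nat_lit 0xdf79d579357, nat_lit 0x9db7, nat_lit 0xfb79d57b357, nat_lit 0xfd7957b3579d579357, nat_lit 0xdf9db357, nat_lit 0x79db7, nat_lit 0x579df97b579d57b357, nat_lit 0x579dfd97b3579d579357, nat_lit 0x9dfb579d57b357, nat_lit 0x9dfd7957b3579d579357,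 nat_lit 0xf7b3579d79357, nat_lit 0xd79357, nat_lit 0xf3579db7957b3579d579357, nat_lit 0x3579df97b579d57b357, nat_lit 0xdb7, nat_lit 0xf579d7957, nat_lit 0xfd79357, nat_lit 0x9df579d579357, nat_lit 0x79dfd97b579d79357, nat_lit 0xfdb57, nat_lit 0x3579df57b3579d579357, nat_lit 0xdf9d7b57, nat_lit 0xdf7b579d7957, nat_lit 0x3579dfb79d579357, nat_lit 0xb3579d57b357, nat_lit 0x7b579d579357, nat_lit 0xfd9357, nat_lit 0xfd7957, nat_lit 0xf97b3579d579357, nat_lit 0xdf579d79357, nat_lit 0xfd957b3579d57b357, nat_lit 0x79d7b357, nat_lit 0xdfd97b579d79357, nat_lit 0x97b579db357, nat_lit 0x79dfb579d79357, nat_lit 0xb3579d79357, nat_lit 0xfd97b579d3573, nat_lit 0xd97b579d79357, nat_lit 0xdfb579d9357, nat_lit 0x97b3579d79357, nat_lit 0xfd957b3579d7b357, nat_lit 0xb79d957, nat_lit 0xdfb579d7b357, nat_lit 0xf7b579d7b357, nat_lit 0xf79d579357, nat_lit 0xdfb79d579357, nat_lit 0xdb7957b3579d79357, nat_lit 0xf957b3579d79357, nat_lit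 0xf79d79357, nat_lit 0xd7, nat_lit 0x579dfd7957b3579d579357, nat_lit 0x579dfb579d57b357, nat_lit 0xdfd957b3579d79357, nat_lit 0xf97b3579d9357, nat_lit 0xb79d57, nat_lit 0xdf97b3579d79357, nat_lit 0x579dfb79d579357, nat_lit 0x79dfb79d79357, nat_lit 0x579df9d7957b3579d579357, nat_lit 0x7b357, nat_lit 0xb79d9357, nat_lit 0x7b579df97b579d579357, nat_lit 0xb579df7b579d579357, nat_lit 0xf9db7, nat_lit 0xd97b3579d357, nat_lit 0xf57b3579d579357, nat_lit 0xf97b579d57b357, nat_lit 0x9df79d7b357, nat_lit 0xf9d9357, nat_lit 0xb79dfd97b579d579357, nat_lit 0x79df7b579d579357, nat_lit 0x579d7, nat_lit 0x79df97b579d579357, nat_lit 0xdb57, nat_lit 0xd357, nat_lit 0xb79dfb579d579357, nat_lit 0x9dfd97b3579d579357, nat_lit 0x9df957b3579d579357, nat_lit 0x579d57, nat_lit 0x7b3579db357, nat_lit 0xfd97b579d57b357, nat_lit 0xf7b3579d579357, nat_lit 0x3579d7b357, nat_lit 0xd97b579d9357, nat_lit 0x97b579d57b357, nat_lit 0xd957b3579d579357,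 nat_lit 0x9df579d79357, nat_lit 0xf79d7957, nat_lit 0xfd, nat_lit 0x579dfb79d357, nat_lit 0x79dfd957b3579d579357, nat_lit 0x79df7957b3579d579357, nat_lit 0x79df97b3579d579357, nat_lit 0xfb3579d79357, nat_lit 0x79dfb579d579357, nat_lit 0xf579d79357, nat_lit 0x79d7, nat_lit 0x3579dfd97b3579d579357, nat_lit 0x7b3579df97b579d579357, nat_lit 0xb579db57, nat_lit 0xdfb79d79357, nat_lit 0x7b579d7b357, nat_lit 0x957b3579d79357, nat_lit 0xfd97b3579db357, nat_lit 0x7b3579d79357, nat_lit 0xdfb3579d79357, nat_lit 0xd957b3579d79357, nat_lit 0xfb79db357, nat_lit 0x9d97, nat_lit 0xdf79d57b357, nat_lit 0xfd7957b3579d57b357, nat_lit 0xfb79d579357, nat_lit 0x97b579d579357, nat_lit 0xd957b3579d57b357, nat_lit 0xdf3579d79357, nat_lit 0xf79d7b57, nat_lit 0xf3579d9357, nat_lit 0xf7b579d9357, nat_lit 0x9df7b3579d579357, nat_lit 0x9df97b579d579357, nat_lit 0x9d3573, nat_lit 0xf97b579d79357, nat_lit 0xf3579d579357, nat_lit 0x9d7b57,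 nat_lit 0xb79d357, nat_lit 0xdf9d357, nat_lit 0xb79d97, nat_lit 0xf79d357, nat_lit 0x9db7957b3579d79357, nat_lit 0xf79d57, nat_lit 0xb79dfd97b579d79357, nat_lit 0x7b3579d9357, nat_lit 0x79df97b579d57b357, nat_lit 0xd957, nat_lit 0xd3573, nat_lit 0x79dfb3579d579357, nat_lit 0x9dfd957b3579d79357, nat_lit 0x9df79d579357, nat_lit 0x57b3579d57b357, nat_lit 0xb79d579357, nat_lit 0x3579dfd7957b3579d579357, nat_lit 0x3579df97b579d579357, nat_lit 0xd97, nat_lit 0x9df79d957, nat_lit 0x9dfb79d57b357, nat_lit 0x9db7957b3579d579357, nat_lit 0xfd7, nat_lit 0x79d579357, nat_lit 0xf79d957, nat_lit 0x9db57, nat_lit 0x7b3579dfd97b579d579357, nat_lit 0xb3579df97b579d579357, nat_lit 0xd579357, nat_lit 0xd3, nat_lit 0x579dfb79d9357, nat_lit 0xf9d579357, nat_lit 0x79d9357, nat_lit 0x79d57, nat_lit 0x57b3579d9357, nat_lit 0xf579d9357, nat_lit 0x9df7b3579d79357, nat_lit 0xfb79d957, nat_lit 0x9d7957b3579d79357, nat_lit 0x7b579db357,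 nat_lit 0x9df97b579d7b357, nat_lit 0xf9d7957b3579d57b357, nat_lit 0xb79df579d9357, nat_lit 0xd7b57, nat_lit 0xb79d3573, nat_lit 0x3579d97, nat_lit 0xf79d97, nat_lit 0x3579d57, nat_lit 0xfd957b3579d79357, nat_lit 0xb79db57, nat_lit 0xdfb579d79357, nat_lit 0xf7b579d79357, nat_lit 0x79d97, nat_lit 0xb579dfd97b579d579357, nat_lit 0xdf9d9357, nat_lit 0x579df97b579d579357, nat_lit 0x79dfb579d9357, nat_lit 0x9dfb579d579357, nat_lit 0xf9db7957b3579d579357, nat_lit 0xd7b357, nat_lit 0xfb79d57, nat_lit 0xfb79d7b357, nat_lit 0x97b3579db357, nat_lit 0xb579d7b357, nat_lit 0x579db7957b3579d579357, nat_lit 0x9df79d357, nat_lit 0x579dfb3579d579357, nat_lit 0xfd357, nat_lit 0xd7957b3579d57b357, nat_lit 0x97b3579d579357, nat_lit 0xdf579d579357, nat_lit 0xf9d7b357, nat_lit 0xd7957b3579d579357, nat_lit 0x97b3579d57b357, nat_lit 0xdf579d57b357, nat_lit 0xf9d79357, nat_lit 0xd57b357, nat_lit 0x579dfb79db357, nat_lit 0xf9d57b357,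 nat_lit 0xd, nat_lit 0xb79dfb579d9357, nat_lit 0xfd97b579d579357, nat_lit 0xd97b579db357, nat_lit 0x3579d79357, nat_lit 0xb7957b3579d9357, nat_lit 0xdf579d7b357, nat_lit 0xfd957b3579d579357, nat_lit 0x79d79357, nat_lit 0xdfd97b3579d9357, nat_lit 0xdf97b579db357, nat_lit 0x7b579d7957, nat_lit 0x79dfb79db357, nat_lit 0x9d957, nat_lit 0x3579dfd957b3579d579357, nat_lit 0xf79db57, nat_lit 0x3579df97b3579d579357, nat_lit 0xfb3579d9357, nat_lit 0x97b3579d7b357, nat_lit 0xfd97b579d357, nat_lit 0xd97b579d7b357, nat_lit 0xdf957b3579d579357, nat_lit 0xdfb79d57b357, nat_lit 0xf79d57b357, nat_lit 0x7957b3579d79357, nat_lit 0xf9d7b57, nat_lit 0x3579d57b357, nat_lit 0xdb7957b3579d579357, nat_lit 0xdfd97b579d579357, nat_lit 0xf79d7b357, nat_lit 0xd73, nat_lit 0xf579db7957b3579d579357, nat_lit 0x579dfb579d579357, nat_lit 0xb79d573, nat_lit 0xd7957b3579d9357, nat_lit 0xfd7957b3579d79357, nat_lit 0x957b3579d9357, nat_lit 0x9dfb579d79357,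 nat_lit 0x7b3579d7b357, nat_lit 0xd957b3579d7b357, nat_lit 0xfb79d9357, nat_lit 0xb79db357, nat_lit 0x579df957b3579d579357, nat_lit 0x579df7b3579d579357, nat_lit 0xf9d97, nat_lit 0xb579db357, nat_lit 0xb79df7b579d579357, nat_lit 0x3579db357, nat_lit 0x79dfd97b579d57b357, nat_lit 0xdf79d9357, nat_lit 0xd97b579d579357, nat_lit 0xfd97b579d9357, nat_lit 0x957b3579d579357, nat_lit 0xd97b3579d9357, nat_lit 0x579d79357, nat_lit 0xdf79d79357, nat_lit 0x579d957, nat_lit 0x57b3579d7957, nat_lit 0x9d, nat_lit 0xf79db7957b3579d79357, nat_lit 0x79db7957b3579d579357, nat_lit 0xb79df97b579d579357, nat_lit 0x9dfb579d9357, nat_lit 0x79dfb579d57b357, nat_lit 0xf579d7b357, nat_lit 0x97b579d7957, nat_lit 0x7b3579d7957, nat_lit 0x7b3579d357, nat_lit 0x97b579d3573, nat_lit 0xb79d7957, nat_lit 0xfd57, nat_lit 0x3579dfd97b579d57b357, nat_lit 0x3579df7957b3579d579357, nat_lit 0x3579d9357, nat_lit 0x79df7b3579d579357, nat_lit 0xb579d9357,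 nat_lit 0x79dfd97b579d579357, nat_lit 0x579dfb579d9357, nat_lit 0xd97b579d357, nat_lit 0xfd97b579d79357, nat_lit 0xb3579d7957, nat_lit 0xdf97b579d9357, nat_lit 0xfd957b3579d9357, nat_lit 0x79dfb79d9357, nat_lit 0x7b579d7b57, nat_lit 0x9df7957b3579d579357, nat_lit 0x9dfb79d579357, nat_lit 0x79d57b357, nat_lit 0x79d, nat_lit 0xfb3579d579357, nat_lit 0x9df97b579d79357, nat_lit 0xf9d7957b3579d579357, nat_lit 0xd7957, nat_lit 0xf9d7957, nat_lit 0x3579d579357, nat_lit 0xdf7957b3579d579357, nat_lit 0xdfd97b579d57b357, nat_lit 0x579d7b357, nat_lit 0xd97b3579db357, nat_lit 0x579db57, nat_lit 0xdf79d7b357, nat_lit 0xb3579df7b579d579357, nat_lit 0x3579dfb579d579357, nat_lit 0x7, nat_lit 0x957, nat_lit 0x79d7957, nat_lit 0xf97b579d9357, nat_lit 0xb79dfb579d79357, nat_lit 0xfdb7957b3579d79357, nat_lit 0x79df7b579d79357, nat_lit 0xfb79db57, nat_lit 0x9df957b3579d79357, nat_lit 0x7b579d9357, nat_lit 0x79d573, nat_lit 0x79db357,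 nat_lit 0xf579db357, nat_lit 0xf7b3579d9357, nat_lit 0x97b3579d9357, nat_lit 0xb579d57, nat_lit 0xfb79d79357, nat_lit 0xb579d79357, nat_lit 0xfb579d357, nat_lit 0xb3579d957, nat_lit 0x9df57b3579d79357, nat_lit 0x9df97b3579d79357, nat_lit 0xdf7b579d579357, nat_lit 0xdf9d7957b3579d57b357, nat_lit 0x9df7b579d79357, nat_lit 0x9357, nat_lit 0x579df7957b3579d579357, nat_lit 0x3579d7957, nat_lit 0xb579dfb579d579357, nat_lit 0x3579d, nat_lit 0x579dfd957b3579d579357, nat_lit 0x579df7b579d579357, nat_lit 0x9db357, nat_lit 0xdfb79d9357, nat_lit 0x7b579dfd97b579d579357, nat_lit 0x579df7b579d57b357, nat_lit 0xdfb79db357, nat_lit 0x9d9357, nat_lit 0x9df79d7957, nat_lit 0xb7, nat_lit 0xdfb79d7957, nat_lit 0x57, nat_lit 0x73, nat_lit 0x3579df7b3579d579357, nat_lit 0xb57, nat_lit 0x3579dfb579d57b357, nat_lit 0x9df79db357, nat_lit 0xb579dfb579d79357, nat_lit 0x579d3573, nat_lit 0xdfd97b3579d579357, nat_lit 0xdfb79d357, nat_lit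 0xb3579d357, nat_lit 0x579df7b579d79357, nat_lit 0x79df97b579d79357, nat_lit 0xb79d7b57, nat_lit 0x579d, nat_lit 0x3579dfd97b579d579357, nat_lit 0x3579db7957b3579d579357, nat_lit 0x579d579357, nat_lit 0xb7957b3579d579357, nat_lit 0xdf9d57, nat_lit 0xfb579d579357, nat_lit 0xdf7b579d57b357, nat_lit 0xdf9d7957b3579d579357, nat_lit 0x9df7b579d7b357, nat_lit 0xb357, nat_lit 0xfd97b3579d7b357, nat_lit 0xdf9db57, nat_lit 0x7957b3579d57b357, nat_lit 0xd97b3579d57b357, nat_lit 0xfd97b3579d79357, nat_lit 0xdf9d957, nat_lit 0x7957b3579d579357, nat_lit 0xd97b3579d579357, nat_lit 0x579d97, nat_lit 0x579d57b357, nat_lit 0xf7957b3579d579357, nat_lit 0xfb579d57b357, nat_lit 0xd97b579d57b357, nat_lit 0xdf79db357, nat_lit 0xfd97b579db357, nat_lit 0x957b3579d57b357, nat_lit 0xf57b3579d79357, nat_lit 0xd97b579d3573, nat_lit 0xfd97b579d7b357, nat_lit 0x9dfb79d357, nat_lit 0x97, nat_lit 0xdf579d7957, nat_lit 0xdfb79d7b57, nat_lit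 0x573, nat_lit 0xdfd97b579d357, nat_lit 0x9dfb79d7b357, nat_lit 0xfb579d9357, nat_lit 0xfb579d7957, nat_lit 0x79dfb79d357, nat_lit 0xf7b579d7957, nat_lit 0x97b579d357, nat_lit 0xf7b579d357, nat_lit 0xf97b579db357, nat_lit 0x79d7b57, nat_lit 0xdf7b3579d579357, nat_lit 0xdfd957b3579d579357, nat_lit 0xfd97b3579d357, nat_lit 0xfb579db357, nat_lit 0x9dfb79d79357, nat_lit 0x97b579d957, nat_lit 0x579d357, nat_lit 0xfdb7957b3579d9357, nat_lit 0x9df79d9357, nat_lit 0xdf57b3579d579357]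
theorem codes_ok : clsOk codes 0 = true := by decide +kernel

theorem cls : ιQ.range = Cx(ss) ∧ ∀ b, IsConj ss b → b * uu = uu * b → b * yy = yy * b → b = ss ∨ b = ss * tt := by
  classical
  obtain ⟨h1, h2⟩ := clsOk_spec _ _ codes_ok
  have le : ιQ.range ≤ Cx(ss) := by
    rintro _ ⟨a, rfl⟩
    rw [ιQ_w, qw, evw_subst]
    have : ∀ k < 8, cE (JW.getD k [] ++ sw) (sw ++ JW.getD k []) = true := by decide +kernel
    exact evw_mem (fun k hk => mem_Cx.2 (cm_ok _ _ (this k hk))) (QT_g.w_spec a.2).1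
  have sub : ((codes.map fun c => evw el (cE1 c)).toFinset : Set N) ⊆ {b | IsConj ss b} := fun b hb => by
    obtain ⟨c, hc, rfl⟩ := List.mem_map.1 (List.mem_toFinset.1 hb)
    have := (h1 c hc).2
    simp only [tst, Bool.and_eq_true] at this
    exact isConj_mk (evw el (Tab.dec 30 c))⁻¹ (by rw [cE1, evw_append, evw_append, iv_ok _ this.1.1, inv_inv, ss])
  have c1 : ((codes.map fun c => evw el (cE1 c)).toFinset : Set N).ncard = 630 := by
    rw [Set.ncard_coe_finset, List.toFinset_card_of_nodup h2, List.length_map]; decide +kernel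
  have c2 : Nat.card ιQ.range = 4608 := (Nat.card_congr (MonoidHom.ofInjective ιQ_inj).toEquiv).symm.trans TB.card
  have c3 := ncard_class_mul ss
  have c4 := Set.ncard_le_ncard sub
  have c5 := card_le_of_le le
  rw [topN.1] at c3
  rw [c1] at c4
  rw [c2] at c5
  refine ⟨eq_of_le_of_card_ge le (by rw [c2]; nlinarith), fun b hb e1 e2 => ?_⟩
  have hb' : b ∈ {b | IsConj ss b} := hb
  rw [← Set.eq_of_subset_of_ncard_le sub (by rw [c1]; nlinarith)] at hb'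
  obtain ⟨c, hc, rfl⟩ := List.mem_map.1 (List.mem_toFinset.1 hb')
  have := (h1 c hc).2
  simp only [tst, Bool.and_eq_true, Bool.or_eq_true] at this
  rcases this.2 with ((h | h) | h) | h
  · exact absurd (by rw [evw_append, evw_append]; exact e1) (cNe_ok _ _ h)
  · exact absurd (by rw [evw_append, evw_append]; exact e2) (cNe_ok _ _ h)
  · exact Or.inl (cE_ok _ _ h)
  · exact Or.inr ((cE_ok _ _ h).trans (evw_append ..))

theorem nsu : ¬ IsConj ss uu := fun h => (cls.2 _ h rfl (cm_ok _ _ (by decide +kernel))).elim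
  (cNe_ok _ _ (by decide +kernel)) fun e => cNe_ok uw (sw ++ [0]) (by decide +kernel) (e.trans (evw_append ..).symm)

theorem ιT_inj : Function.Injective ιT := exT.choose_spec.1

theorem syl_of {G : Type*} [Group G] [Finite G] {φ : TG →* G} (hφ : Function.Injective φ) {K : Subgroup G}
    (le : φ.range ≤ K) {m : ℕ} (hc : Nat.card K = 1024 * (2 * m + 1)) {x : G} (hx : x ∈ K) (h4 : x * x * (x * x) = 1) :
    ∃ k ∈ K, ∃ a, φ a = k * x * k⁻¹ := by
  haveI : Fact (Nat.Prime 2) := ⟨Nat.prime_two⟩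
  have c : Nat.card φ.range = 1024 := (Nat.card_congr (MonoidHom.ofInjective hφ).toEquiv).symm.trans TB.card
  refine (sylIn_of_not_dvd (p := 2) le (IsPGroup.of_card (n := 10) c) ?_).exists_conj_mem hx (k := 2) (by
    simpa [pow_succ, mul_assoc] using h4)
  have := relIndex_mul_relIndex ⊥ φ.range K bot_le le
  rw [relIndex_bot_left, relIndex_bot_left, c, hc] at this
  omega

theorem repT {w : List ℕ} {l : List (ℕ × List ℕ)} (h : (l.all fun r => allLt 16 r.2 &&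
    cE (r.2 ++ w ++ invw C3N.il r.2) (subst TW (TT.wl (ix TT_g r.1).1))) = true) {a c : TG}
    (e : ∃ r ∈ l, c * a = ix TT_g r.1 * c) : IsConj (evw el w) (ιT a) := by
  obtain ⟨r, hr, e⟩ := e
  refine (isConj_mk _ ((cj_ok _ _ _ (List.all_eq_true.1 h r hr)).trans (exT.choose_spec.2.1 _).symm)).trans
    (isConj_mk (ιT c) ?_).symm
  rw [mul_inv_eq_iff_eq_mul, ← map_mul, e, map_mul]
  rfl

theorem ιT_t : ιT tT = tt := (exT.choose_spec.2.1 _).trans (cE_ok _ _ (by decide +kernel))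

theorem invN (x : N) (h : x * x = 1) : x = 1 ∨ x = tt ∨ IsConj ss x ∨ IsConj uu x := by
  obtain ⟨k, -, a, e⟩ := syl_of ιT_inj le_top (m := 1417) (card_top.trans topN.1) (mem_top x) (by rw [h, mul_one])
  have c : IsConj (ιT a) x := (isConj_mk k e.symm).symm
  rcases fT1 a (ιT_inj (by rw [map_mul, sq_of_isConj c.symm h, map_one])) with rfl | rfl | p | p
  · exact Or.inl (by simpa using c.symm)
  · exact Or.inr (Or.inl (conj_tt (ιT_t ▸ c)))
  · exact Or.inr (Or.inr (Or.inl ((repT (by decide +kernel) p).trans c)))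
  · exact Or.inr (Or.inr (Or.inr ((repT (by decide +kernel) p).trans c)))

theorem sqN (x : N) : x * x ≠ uu := fun h => by
  obtain ⟨k, -, a, e⟩ := syl_of ιT_inj le_top (m := 1417) (card_top.trans topN.1) (mem_top x) (by rw [h, uu2])
  have c : IsConj (ιT (a * a)) uu := (isConj_mk k (by rw [map_mul, e, ← h]; group)).symm
  rcases fT2 a (ιT_inj (by rw [map_mul, sq_of_isConj c.symm uu2, map_one])) with p | p | p
  · exact uu1 (by simpa [p] using c.symm)
  · exact uut (conj_tt (by rwa [p, ιT_t] at c))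
  · exact nsu ((repT (by decide +kernel) p).trans c)

end CfH8.C3
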