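import Cfsg.Agent.OD.Pre
import Cfsg.Agent.H8.C3D
import Cfsg.Agent.H8.C3F.F0
import Cfsg.Agent.H8.C3F.O
import Cfsg.Agent.H8.C3F.P0
set_option autoImplicit false
set_option maxRecDepth 100000
set_option Elab.async false
set_option linter.all false
namespace CfH8.C3F
open CfH6 CfH6.D MulAction
def σ : List (List ℕ) := [[0],
  [1],
  [2],
  [3],
  [4],
  [5],
  [6],
  [7],
  [8],
  [9],
  [10],
  [11],
  [12],
  [13],
  [14],
  [15]]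
def uss : List (List (List ℕ)) := [[[], []],
  [[2], [2], [2, 8, 7, 11, 7, 9, 7, 3]],
  [[2], [2, 8, 7, 11, 7, 9, 7, 3], [2]],
  [[2, 8, 7, 11, 7, 9, 7, 3], [2], [2]],
  [[2, 6, 4, 2, 8, 6, 4, 10, 6], [2, 6, 4, 2, 8, 6, 4, 10, 6], [2, 4, 2, 6, 4, 8, 6, 4, 10, 6, 4, 2, 8, 6, 4, 11, 2, 6, 4, 2, 8, 6, 4, 10, 6]],
  [[2, 6, 4, 2, 8, 6, 4, 10, 6], [2, 4, 2, 6, 4, 8, 6, 4, 10, 6, 4, 2, 8, 6, 4, 11, 2, 6, 4, 2, 8, 6, 4, 10, 6], [2, 6, 4, 2, 8, 6, 4, 10, 6]],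
  [[2, 4, 2, 6, 4, 8, 6, 4, 10, 6, 4, 2, 8, 6, 4, 11, 2, 6, 4, 2, 8, 6, 4, 10, 6], [2, 6, 4, 2, 8, 6, 4, 10, 6], [2, 6, 4, 2, 8, 6, 4, 10, 6]]]
def bus : List (List ℕ × List ℕ) := [([4, 10, 12, 8, 14, 12], [13, 15, 9, 13, 11, 5]),
  ([2, 4, 2, 6, 8, 10, 6, 4, 2, 14], [11, 5, 7, 9, 13, 15, 11, 7, 9, 13, 9, 5, 7, 11, 7, 9, 7, 5]),
  ([2, 4, 2, 12, 8, 14, 12], [4, 7, 11, 9, 7, 3, 5])]
def ex : List (List ℕ) := [[4, 10, 12, 8, 14, 12, 16, 13, 15, 9, 13, 11, 5, 16],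
  [2, 4, 2, 6, 8, 10, 6, 4, 2, 14, 16, 11, 5, 7, 9, 13, 15, 11, 7, 9, 13, 9, 5, 7, 11, 7, 9, 7, 5, 16],
  [2, 4, 2, 12, 8, 14, 12, 16, 4, 7, 11, 9, 7, 3, 5, 16]]
def gws : List (List ℕ) := uss.map (gw σ 16)
def bws : List (List ℕ) := bus.map fun u => subst σ u.1 ++ 16 :: (subst σ u.2 ++ [16])
theorem chk : Rng P.chk 0 109 := p0
section
variable {G : Type*} [Group G] (el : ℕ → G) (ρ : C3N.G →* G) (hρ : ∀ x < 16, ρ (C3N.el x) = byW el σ x)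
include hρ
theorem trl : Trl ρ C3D.cd C3D.eq 16 el σ := ⟨C3D.heq, fun x hx => by rw [C3D.cdx x hx, hρ x hx]⟩
theorem hbp (ht : el 16 = (el 16)⁻¹) (h : ∀ w ∈ bws, evw el w = 1) : ∀ p ∈ P.bp, ρ (C3D.cd p.1) * el 16 = el 16 * ρ (C3D.cd p.2) :=
  (trl el ρ hρ).bp _ _ ht _ bus h (by decide +kernel)
variable (H : Subgroup G) (hH : ∀ n, ρ n ∈ H) (hg : ∀ w ∈ gws, evw el w = 1)
  (hb : ∀ p ∈ P.bp, ρ (C3D.cd p.1) * el 16 = el 16 * ρ (C3D.cd p.2))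
noncomputable def C : Ctx P C3N.G G where
  ρ := ρ
  t := el 16
  H := H
  Bs := ⊤
  cd := C3D.cd
  cd0 := C3D.cd0
  heq := C3D.heq
  hH := fun _ => hH
  hB := fun _ => rfl
  hrel := (trl el ρ hρ).rels 16 _ uss hg (by decide +kernel)
  hsub := forall_nil
  hbp := fun p hp => ⟨trivial, hb p hp⟩
include H hH hg hb
theorem hS : ∀ k < 109, (C el ρ hρ H hH hg hb).Sem (P.fact k) := (C el ρ hρ H hH hg hb).sound chk
section
attribute [local instance] actO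
theorem memB : ∀ k, P.okP 109 trO k = 0 → C3D.cd (P.cdK k) ∈ Bsub ρ (el 16) ⊓ stO := Ctx.okP_mem (hS el ρ hρ H hH hg hb) trsO (by decide)
end
section
attribute [local instance] C3D.actD
theorem cardB : 4608 ≤ Nat.card (Bsub ρ (el 16) ⊓ stO : Subgroup _) := have := C3D.fin; levs_card C3D.trsD (memB el ρ hρ H hH hg hb) levB _ lB
theorem hi : ∀ p ∈ lv, ((C el ρ hρ H hH hg hb).T p.1).index ≤ p.2 := have := C3D.fin; forall_cons (Ctx.T0 rfl) (forall_nil)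
end
section
attribute [local instance] actO
theorem dec : ∀ γ ∈ (C el ρ hρ H hH hg hb).K, (C el ρ hρ H hH hg hb).U LM γ := have := C3D.fin
  (C el ρ hρ H hH hg hb).dec (m := 630) (a := 0) (b := 0) lv (by decide +kernel) List.mem_cons_self (lm_of lv LM (by decide +kernel))
    (fun x => tb0O.bound C3N.htop x (by decide)) (stab_le C3D.card lowO (cardB el ρ hρ H hH hg hb) (by decide)) (forall_cons (Ctx.cos_of rfl (hS el ρ hρ H hH hg hb) trsO 0 [nat_lit 100, nat_lit 102, nat_lit 105, nat_lit 101, nat_lit 103, nat_lit 104, nat_lit 106] 0 0 1 ct0 c0) (forall_nil))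
end
theorem covers : Covers H (C el ρ hρ H hH hg hb).K 1 := have := C3D.fin
  (C el ρ hρ H hH hg hb).cover lv (lm_of lv LM (by decide +kernel)) (dec el ρ hρ H hH hg hb) (hi el ρ hρ H hH hg hb) _ (by decide +kernel)
end
end CfH8.C3F
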