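import Cfsg.Agent.OD.Pre
import Cfsg.Agent.H8.D3
import Cfsg.Agent.H5.NatI
import Cfsg.Agent.H5.Nat
import Cfsg.Agent.H4.Extra2
/-! Involutions and elementary abelian subgroups of `2^(1+8):Sp₆(2)`. -/
set_option autoImplicit false
set_option maxRecDepth 100000
set_option Elab.async false
set_option linter.all false
open CfL hiding Tp Tm Zp Zm hZp hZm cZp cZm es_rels autp autm
open CfH6 CfH6.Co MulAction Subgroup CfH9
namespace CfH8.C2
open CfH8.C3 (Sp A cA A_eq A_gen card_Sp6)
open CfH5.SpI (invSp JS1 JS2 OW OW_lt)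
noncomputable def cosOk (r : List ℕ) (reps : List (List ℕ)) (tb : List (ℕ × ℕ × ℕ)) : Bool :=
  (List.range 512).all fun q => tb.any (fun e => Nat.beq e.1 q && Nat.blt e.2.1 reps.length &&
    cJ (Tab.dec 20 e.2.2) (reps.getD e.2.1 []) (r ++ tp.wl q)) || cN ((r ++ tp.wl q) ++ (r ++ tp.wl q)) []
theorem lift {x : N} {r : List ℕ} (hr : allLt 7 r = true) (e : πN x = evw A r) :
    ∃ t : Tp, x = evw el (r.map (· + 9)) * ιN t := by
  obtain ⟨t, h⟩ := nf x
  exact ⟨t, by rw [← σw hr, ← e, ← h]⟩
theorem down {x : N} {s : Sp} (c : IsConj s (πN x)) : ∃ k : N, πN (k * x * k⁻¹) = s := by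
  obtain ⟨k, e⟩ := isConj_iff.1 c.symm
  exact ⟨σN k, by rw [map_mul, map_mul, map_inv, πσ, e]⟩
theorem sq_cj {G : Type*} [Group G] {x : G} (k : G) (h : x * x = 1) : k * x * k⁻¹ * (k * x * k⁻¹) = 1 := by
  calc _ = k * (x * x) * k⁻¹ := by group
    _ = 1 := by rw [h]; simp
theorem allLt_of {k : ℕ} {w : List ℕ} (h : ∀ x ∈ w, x < k) : allLt k w = true := List.all_eq_true.2 fun x hx => blt2 (h x hx)
theorem cos (r : List ℕ) (reps : List (List ℕ)) (tb : List (ℕ × ℕ × ℕ)) (h : (allLt 7 r && cosOk (r.map (· + 9)) reps tb) = true)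
    {x : N} (x2 : x * x = 1) (c : IsConj (evw A r) (πN x)) : ∃ w ∈ reps, IsConj (evw el w) x := by
  rw [Bool.and_eq_true] at h
  obtain ⟨k, e⟩ := down c
  obtain ⟨t, e⟩ := lift h.1 e
  rw [ιw, ← evw_append] at e
  rcases Bool.or_eq_true _ _ ▸ List.all_eq_true.1 h.2 t.1 (List.mem_range.2 t.2) with a | a
  · obtain ⟨p, -, a⟩ := List.any_eq_true.1 a
    simp only [Bool.and_eq_true] at a
    refine ⟨_, ?_, (isConj_iff.2 ⟨_, cj_ok _ _ _ a.2⟩).trans (e ▸ isConj_iff.2 ⟨k, rfl⟩).symm⟩
    rw [List.getD_eq_getElem _ _ (blt1 a.1.2)]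
    exact List.getElem_mem _
  · exact absurd (by rw [evw_append, ← e, sq_cj k x2]; rfl) (cN_ok _ _ a)

theorem cos0 {x : N} (x2 : x * x = 1) (c : IsConj (evw A []) (πN x)) : ∃ w ∈ [[], [0], wa], IsConj (evw el w) x :=
  cos _ _ [(nat_lit 0, nat_lit 0, nat_lit 0x0), (nat_lit 1, nat_lit 1, nat_lit 0x0), (nat_lit 2, nat_lit 2, nat_lit 0xae), (nat_lit 3, nat_lit 2, nat_lit 0x7ae), (nat_lit 4, nat_lit 2, nat_lit 0x7abcdecba), (nat_lit 5, nat_lit 2, nat_lit 0xabcdecba), (nat_lit 8, nat_lit 2, nat_lit 0xabcdecbdf), (nat_lit 9, nat_lit 2, nat_lit 0x7abcdecbdf), (nat_lit 10, nat_lit 2, nat_lit 0xa), (nat_lit 11, nat_lit 2, nat_lit 0x7a), (nat_lit 12, nat_lit 2, nat_lit 0xcbecb), (nat_lit 13, nat_lit 2, nat_lit 0x7cbecb), (nat_lit 16, nat_lit 2, nat_lit 0xace0f), (nat_lit 17, nat_lit 2, nat_lit 0x7ace0f), (nat_lit 18, nat_lit 2, nat_lit 0x7ad0fdc), (nat_lit 19, nat_lit 2, nat_lit 0xad0fdc), (nat_lit 20, nat_lit 2, nat_lit 0xcf00), (nat_lit 21, nat_lit 2, nat_lit 0x7cf00), (nat_lit 30,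 nat_lit 2, nat_lit 0x7abcdf0), (nat_lit 31, nat_lit 2, nat_lit 0xabcdf0), (nat_lit 32, nat_lit 2, nat_lit 0x7), (nat_lit 33, nat_lit 2, nat_lit 0x0), (nat_lit 34, nat_lit 2, nat_lit 0xcc0fdc), (nat_lit 35, nat_lit 2, nat_lit 0x7cc0fdc), (nat_lit 36, nat_lit 2, nat_lit 0x7fe0f), (nat_lit 37, nat_lit 2, nat_lit 0xfe0f), (nat_lit 40, nat_lit 2, nat_lit 0xace0fdcba), (nat_lit 41, nat_lit 2, nat_lit 0x7ace0fdcba), (nat_lit 42, nat_lit 2, nat_lit 0x7ab), (nat_lit 43, nat_lit 2, nat_lit 0xab), (nat_lit 44, nat_lit 2, nat_lit 0xaefdcbb0f), (nat_lit 45, nat_lit 2, nat_lit 0x7aefdcbb0f), (nat_lit 48, nat_lit 2, nat_lit 0xd00fdc), (nat_lit 49, nat_lit 2, nat_lit 0x7d00fdc), (nat_lit 50, nat_lit 2, nat_lit 0x7cbf0f), (nat_lit 51, nat_lit 2, nat_lit 0xcbf0f), (nat_lit 52, nat_lit 2, nat_lit 0xabcec), (nat_lit 53, nat_lit 2, nat_lit 0x7abcec), (nat_lit 62, nat_lit 2, nat_lit 0x7acbf0), (nat_lit 63, nat_lit 2, nat_lit 0xacbf0), (nat_lit 64, nat_lit 2, nat_lit 0xabcdecbd), (nat_lit 65, nat_lit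 2, nat_lit 0x7abcdecbd), (nat_lit 66, nat_lit 2, nat_lit 0x7afe0f), (nat_lit 67, nat_lit 2, nat_lit 0xafe0f), (nat_lit 68, nat_lit 2, nat_lit 0xacdecb), (nat_lit 69, nat_lit 2, nat_lit 0x7acdecb), (nat_lit 72, nat_lit 2, nat_lit 0xabcdecb), (nat_lit 73, nat_lit 2, nat_lit 0x7abcdecb), (nat_lit 74, nat_lit 2, nat_lit 0x7aefe0f), (nat_lit 75, nat_lit 2, nat_lit 0xaefe0f), (nat_lit 76, nat_lit 2, nat_lit 0x7abcdec), (nat_lit 77, nat_lit 2, nat_lit 0xabcdec), (nat_lit 80, nat_lit 2, nat_lit 0x7acbe), (nat_lit 81, nat_lit 2, nat_lit 0xacbe), (nat_lit 82, nat_lit 2, nat_lit 0xabce), (nat_lit 83, nat_lit 2, nat_lit 0x7abce), (nat_lit 84, nat_lit 2, nat_lit 0x7cc0fd), (nat_lit 85, nat_lit 2, nat_lit 0xcc0fd), (nat_lit 94, nat_lit 2, nat_lit 0xaefdd0), (nat_lit 95, nat_lit 2, nat_lit 0x7aefdd0), (nat_lit 102, nat_lit 2, nat_lit 0x7abce0f), (nat_lit 103, nat_lit 2, nat_lit 0xabce0f), (nat_lit 110, nat_lit 2, nat_lit 0xefdd0f), (nat_lit 111, nat_lit 2, nat_lit 0x7efdd0f), (nat_lit 118,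 nat_lit 2, nat_lit 0x7cc0f), (nat_lit 119, nat_lit 2, nat_lit 0xcc0f), (nat_lit 120, nat_lit 2, nat_lit 0xabd0), (nat_lit 121, nat_lit 2, nat_lit 0x7abd0), (nat_lit 122, nat_lit 2, nat_lit 0x7acc0), (nat_lit 123, nat_lit 2, nat_lit 0xacc0), (nat_lit 124, nat_lit 2, nat_lit 0xacc0fdc), (nat_lit 125, nat_lit 2, nat_lit 0x7acc0fdc), (nat_lit 128, nat_lit 2, nat_lit 0x7abcdecdf), (nat_lit 129, nat_lit 2, nat_lit 0xabcdecdf), (nat_lit 130, nat_lit 2, nat_lit 0xace0fdcb), (nat_lit 131, nat_lit 2, nat_lit 0x7ace0fdcb), (nat_lit 132, nat_lit 2, nat_lit 0x7cbec), (nat_lit 133, nat_lit 2, nat_lit 0xcbec), (nat_lit 136, nat_lit 2, nat_lit 0x7abcdecbadf), (nat_lit 137, nat_lit 2, nat_lit 0xabcdecbadf), (nat_lit 138, nat_lit 2, nat_lit 0xcc0fdcb), (nat_lit 139, nat_lit 2, nat_lit 0x7cc0fdcb), (nat_lit 140, nat_lit 2, nat_lit 0xabcdecbad), (nat_lit 141, nat_lit 2, nat_lit 0x7abcdecbad), (nat_lit 144, nat_lit 2, nat_lit 0xcbf0fd), (nat_lit 145, nat_lit 2, nat_lit 0x7cbf0fd), (nat_lit 146, nat_lit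 2, nat_lit 0x7efdd0), (nat_lit 147, nat_lit 2, nat_lit 0xefdd0), (nat_lit 148, nat_lit 2, nat_lit 0xacb), (nat_lit 149, nat_lit 2, nat_lit 0x7acb), (nat_lit 158, nat_lit 2, nat_lit 0x7abc), (nat_lit 159, nat_lit 2, nat_lit 0xabc), (nat_lit 160, nat_lit 2, nat_lit 0x7cc0fdcba), (nat_lit 161, nat_lit 2, nat_lit 0xcc0fdcba), (nat_lit 162, nat_lit 2, nat_lit 0x7ace0fdc), (nat_lit 163, nat_lit 2, nat_lit 0xace0fdc), (nat_lit 164, nat_lit 2, nat_lit 0x7efdcbb0f), (nat_lit 165, nat_lit 2, nat_lit 0xefdcbb0f), (nat_lit 168, nat_lit 2, nat_lit 0xe), (nat_lit 169, nat_lit 2, nat_lit 0x7e), (nat_lit 170, nat_lit 2, nat_lit 0xabe), (nat_lit 171, nat_lit 2, nat_lit 0x7abe), (nat_lit 172, nat_lit 2, nat_lit 0xefe0f), (nat_lit 173, nat_lit 2, nat_lit 0x7efe0f), (nat_lit 176, nat_lit 2, nat_lit 0xaefdc), (nat_lit 177, nat_lit 2, nat_lit 0x7aefdc), (nat_lit 178, nat_lit 2, nat_lit 0x7ace0fd), (nat_lit 179, nat_lit 2, nat_lit 0xace0fd), (nat_lit 180, nat_lit 2, nat_lit 0xabcd), (nat_lit 181, nat_lit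 2, nat_lit 0x7abcd), (nat_lit 190, nat_lit 2, nat_lit 0x7cf), (nat_lit 191, nat_lit 2, nat_lit 0xcf), (nat_lit 192, nat_lit 2, nat_lit 0xacdecd), (nat_lit 193, nat_lit 2, nat_lit 0x7acdecd), (nat_lit 194, nat_lit 2, nat_lit 0x7efdcc0f), (nat_lit 195, nat_lit 2, nat_lit 0xefdcc0f), (nat_lit 196, nat_lit 2, nat_lit 0x7acdecba), (nat_lit 197, nat_lit 2, nat_lit 0xacdecba), (nat_lit 200, nat_lit 2, nat_lit 0xacdec), (nat_lit 201, nat_lit 2, nat_lit 0x7acdec), (nat_lit 202, nat_lit 2, nat_lit 0x7aefdcc0f), (nat_lit 203, nat_lit 2, nat_lit 0xaefdcc0f), (nat_lit 204, nat_lit 2, nat_lit 0xabcdecd), (nat_lit 205, nat_lit 2, nat_lit 0x7abcdecd), (nat_lit 208, nat_lit 2, nat_lit 0x7d00), (nat_lit 209, nat_lit 2, nat_lit 0xd00), (nat_lit 210, nat_lit 2, nat_lit 0xabce0), (nat_lit 211, nat_lit 2, nat_lit 0x7abce0), (nat_lit 212, nat_lit 2, nat_lit 0x7acdf0f), (nat_lit 213, nat_lit 2, nat_lit 0xacdf0f), (nat_lit 222, nat_lit 2, nat_lit 0xd0fdc), (nat_lit 223, nat_lit 2, nat_lit 0x7d0fdc),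 (nat_lit 230, nat_lit 2, nat_lit 0xabcdf0f), (nat_lit 231, nat_lit 2, nat_lit 0x7abcdf0f), (nat_lit 238, nat_lit 2, nat_lit 0x7aefdd0f), (nat_lit 239, nat_lit 2, nat_lit 0xaefdd0f), (nat_lit 246, nat_lit 2, nat_lit 0x7acbecdf), (nat_lit 247, nat_lit 2, nat_lit 0xacbecdf), (nat_lit 248, nat_lit 2, nat_lit 0xabcde), (nat_lit 249, nat_lit 2, nat_lit 0x7abcde), (nat_lit 250, nat_lit 2, nat_lit 0x7cef), (nat_lit 251, nat_lit 2, nat_lit 0xcef), (nat_lit 252, nat_lit 2, nat_lit 0xefdc), (nat_lit 253, nat_lit 2, nat_lit 0x7efdc), (nat_lit 256, nat_lit 2, nat_lit 0xaf00), (nat_lit 257, nat_lit 2, nat_lit 0x7af00), (nat_lit 258, nat_lit 2, nat_lit 0x7af), (nat_lit 259, nat_lit 2, nat_lit 0xaf), (nat_lit 260, nat_lit 2, nat_lit 0xd00fdcb), (nat_lit 261, nat_lit 2, nat_lit 0x7d00fdcb), (nat_lit 264, nat_lit 2, nat_lit 0x7afd), (nat_lit 265, nat_lit 2, nat_lit 0xafd), (nat_lit 266, nat_lit 2, nat_lit 0xaefe0), (nat_lit 267, nat_lit 2, nat_lit 0x7aefe0), (nat_lit 268, nat_lit 2, nat_lit 0x7aefdcb),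 (nat_lit 269, nat_lit 2, nat_lit 0xaefdcb), (nat_lit 272, nat_lit 2, nat_lit 0x7ef), (nat_lit 273, nat_lit 2, nat_lit 0xef), (nat_lit 274, nat_lit 2, nat_lit 0xcbe), (nat_lit 275, nat_lit 2, nat_lit 0x7cbe), (nat_lit 276, nat_lit 2, nat_lit 0x7efe0), (nat_lit 277, nat_lit 2, nat_lit 0xefe0), (nat_lit 286, nat_lit 2, nat_lit 0xcec), (nat_lit 287, nat_lit 2, nat_lit 0x7cec), (nat_lit 288, nat_lit 2, nat_lit 0xacdf0), (nat_lit 289, nat_lit 2, nat_lit 0x7acdf0), (nat_lit 290, nat_lit 2, nat_lit 0x7acd), (nat_lit 291, nat_lit 2, nat_lit 0xacd), (nat_lit 292, nat_lit 2, nat_lit 0xd00f), (nat_lit 293, nat_lit 2, nat_lit 0x7d00f), (nat_lit 296, nat_lit 2, nat_lit 0x7ac), (nat_lit 297, nat_lit 2, nat_lit 0xac), (nat_lit 298, nat_lit 2, nat_lit 0xacec), (nat_lit 299, nat_lit 2, nat_lit 0x7acec), (nat_lit 300, nat_lit 2, nat_lit 0x7cecfd), (nat_lit 301, nat_lit 2, nat_lit 0xcecfd), (nat_lit 304, nat_lit 2, nat_lit 0x800), (nat_lit 305, nat_lit 2, nat_lit 0x100), (nat_lit 306, nat_lit 2,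 nat_lit 0xcc0), (nat_lit 307, nat_lit 2, nat_lit 0x7cc0), (nat_lit 308, nat_lit 2, nat_lit 0xf00), (nat_lit 309, nat_lit 2, nat_lit 0x7f00), (nat_lit 318, nat_lit 2, nat_lit 0x7cbf0), (nat_lit 319, nat_lit 2, nat_lit 0xcbf0), (nat_lit 320, nat_lit 2, nat_lit 0x7aefd), (nat_lit 321, nat_lit 2, nat_lit 0xaefd), (nat_lit 322, nat_lit 2, nat_lit 0x7aef), (nat_lit 323, nat_lit 2, nat_lit 0xaef), (nat_lit 324, nat_lit 2, nat_lit 0x7efdcb), (nat_lit 325, nat_lit 2, nat_lit 0xefdcb), (nat_lit 328, nat_lit 2, nat_lit 0xb00), (nat_lit 329, nat_lit 2, nat_lit 0x7b00), (nat_lit 330, nat_lit 2, nat_lit 0xafe0), (nat_lit 331, nat_lit 2, nat_lit 0x7afe0), (nat_lit 332, nat_lit 2, nat_lit 0xacc0fdcb), (nat_lit 333, nat_lit 2, nat_lit 0x7acc0fdcb), (nat_lit 336, nat_lit 2, nat_lit 0xd0fdcba), (nat_lit 337, nat_lit 2, nat_lit 0x7d0fdcba), (nat_lit 338, nat_lit 2, nat_lit 0x7ad0f), (nat_lit 339, nat_lit 2, nat_lit 0xad0f), (nat_lit 340, nat_lit 2, nat_lit 0xefdcbb0), (nat_lit 341, nat_lit 2, nat_lit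 0x7efdcbb0), (nat_lit 350, nat_lit 2, nat_lit 0x7acc0fd), (nat_lit 351, nat_lit 2, nat_lit 0xacc0fd), (nat_lit 358, nat_lit 2, nat_lit 0xd0f), (nat_lit 359, nat_lit 2, nat_lit 0x7d0f), (nat_lit 366, nat_lit 2, nat_lit 0x7cecfe0), (nat_lit 367, nat_lit 2, nat_lit 0xcecfe0), (nat_lit 374, nat_lit 2, nat_lit 0x7acc0f), (nat_lit 375, nat_lit 2, nat_lit 0xacc0f), (nat_lit 376, nat_lit 2, nat_lit 0x7acc0fdcba), (nat_lit 377, nat_lit 2, nat_lit 0xacc0fdcba), (nat_lit 378, nat_lit 2, nat_lit 0xacbecb), (nat_lit 379, nat_lit 2, nat_lit 0x7acbecb), (nat_lit 380, nat_lit 2, nat_lit 0xd00fdcba), (nat_lit 381, nat_lit 2, nat_lit 0x7d00fdcba), (nat_lit 390, nat_lit 2, nat_lit 0xefdcc0), (nat_lit 391, nat_lit 2, nat_lit 0x7efdcc0), (nat_lit 398, nat_lit 2, nat_lit 0x7ad0fdcb), (nat_lit 399, nat_lit 2, nat_lit 0xad0fdcb), (nat_lit 406, nat_lit 2, nat_lit 0xcb), (nat_lit 407, nat_lit 2, nat_lit 0x7cb), (nat_lit 408, nat_lit 2, nat_lit 0x7fe0), (nat_lit 409, nat_lit 2, nat_lit 0xfe0), (nat_lit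 410, nat_lit 2, nat_lit 0xd0), (nat_lit 411, nat_lit 2, nat_lit 0x7d0), (nat_lit 412, nat_lit 2, nat_lit 0x7f), (nat_lit 413, nat_lit 2, nat_lit 0xf), (nat_lit 422, nat_lit 2, nat_lit 0xd00fd), (nat_lit 423, nat_lit 2, nat_lit 0x7d00fd), (nat_lit 430, nat_lit 2, nat_lit 0x7cecf), (nat_lit 431, nat_lit 2, nat_lit 0xcecf), (nat_lit 438, nat_lit 2, nat_lit 0x7c), (nat_lit 439, nat_lit 2, nat_lit 0xc), (nat_lit 440, nat_lit 2, nat_lit 0x7efd), (nat_lit 441, nat_lit 2, nat_lit 0xefd), (nat_lit 442, nat_lit 2, nat_lit 0xce), (nat_lit 443, nat_lit 2, nat_lit 0x7ce), (nat_lit 444, nat_lit 2, nat_lit 0xfd), (nat_lit 445, nat_lit 2, nat_lit 0x7fd), (nat_lit 454, nat_lit 2, nat_lit 0xaefdcc0), (nat_lit 455, nat_lit 2, nat_lit 0x7aefdcc0), (nat_lit 462, nat_lit 2, nat_lit 0x7d0fdcb), (nat_lit 463, nat_lit 2, nat_lit 0xd0fdcb), (nat_lit 470, nat_lit 2, nat_lit 0x7acbec), (nat_lit 471, nat_lit 2, nat_lit 0xacbec), (nat_lit 472, nat_lit 2, nat_lit 0xaefdcbb0), (nat_lit 473, nat_lit 2, nat_lit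 0x7aefdcbb0), (nat_lit 474, nat_lit 2, nat_lit 0x7acbecbd), (nat_lit 475, nat_lit 2, nat_lit 0xacbecbd), (nat_lit 476, nat_lit 2, nat_lit 0xad0fdcba), (nat_lit 477, nat_lit 2, nat_lit 0x7ad0fdcba), (nat_lit 480, nat_lit 2, nat_lit 0x7ace0), (nat_lit 481, nat_lit 2, nat_lit 0xace0), (nat_lit 482, nat_lit 2, nat_lit 0x7ad0), (nat_lit 483, nat_lit 2, nat_lit 0xad0), (nat_lit 484, nat_lit 2, nat_lit 0x7ced00), (nat_lit 485, nat_lit 2, nat_lit 0xced00), (nat_lit 488, nat_lit 2, nat_lit 0xace), (nat_lit 489, nat_lit 2, nat_lit 0x7ace), (nat_lit 490, nat_lit 2, nat_lit 0xacde), (nat_lit 491, nat_lit 2, nat_lit 0x7acde), (nat_lit 492, nat_lit 2, nat_lit 0xd0fd), (nat_lit 493, nat_lit 2, nat_lit 0x7d0fd), (nat_lit 496, nat_lit 2, nat_lit 0x7efdcba), (nat_lit 497, nat_lit 2, nat_lit 0xefdcba), (nat_lit 498, nat_lit 2, nat_lit 0xad0fd), (nat_lit 499, nat_lit 2, nat_lit 0x7ad0fd), (nat_lit 500, nat_lit 2, nat_lit 0xaefdcba), (nat_lit 501, nat_lit 2, nat_lit 0x7aefdcba), (nat_lit 510, nat_lit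 2, nat_lit 0x7acbecd), (nat_lit 511, nat_lit 2, nat_lit 0xacbecd)] (by decide +kernel) x2 c
theorem cos1 {x : N} (x2 : x * x = 1) (c : IsConj (evw A [3]) (πN x)) : ∃ w ∈ [wd, wtd], IsConj (evw el w) x :=
  cos _ _ [(nat_lit 0, nat_lit 0, nat_lit 0x0), (nat_lit 1, nat_lit 1, nat_lit 0x0), (nat_lit 2, nat_lit 0, nat_lit 0x79), (nat_lit 3, nat_lit 1, nat_lit 0x79), (nat_lit 8, nat_lit 0, nat_lit 0x7), (nat_lit 9, nat_lit 1, nat_lit 0x7), (nat_lit 10, nat_lit 0, nat_lit 0x9), (nat_lit 11, nat_lit 1, nat_lit 0x9), (nat_lit 32, nat_lit 1, nat_lit 0x9a), (nat_lit 33, nat_lit 0, nat_lit 0x9a), (nat_lit 34, nat_lit 0, nat_lit 0x5a), (nat_lit 35, nat_lit 1, nat_lit 0x5a), (nat_lit 40, nat_lit 0, nat_lit 0x39a), (nat_lit 41, nat_lit 1, nat_lit 0x39a), (nat_lit 42, nat_lit 1, nat_lit 0x35), (nat_lit 43, nat_lit 0, nat_lit 0x35), (nat_lit 128, nat_lit 1, nat_lit 0x37), (nat_lit 129, nat_lit 0, nat_lit 0x37), (nat_lit 130, nat_lit 0, nat_lit 0x39), (nat_lit 131, nat_lit 1, nat_lit 0x39), (nat_lit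 136, nat_lit 1, nat_lit 0x3), (nat_lit 137, nat_lit 0, nat_lit 0x3), (nat_lit 138, nat_lit 0, nat_lit 0x379), (nat_lit 139, nat_lit 1, nat_lit 0x379), (nat_lit 160, nat_lit 1, nat_lit 0x579), (nat_lit 161, nat_lit 0, nat_lit 0x579), (nat_lit 162, nat_lit 1, nat_lit 0x5), (nat_lit 163, nat_lit 0, nat_lit 0x5), (nat_lit 168, nat_lit 0, nat_lit 0x59), (nat_lit 169, nat_lit 1, nat_lit 0x59), (nat_lit 170, nat_lit 0, nat_lit 0x57), (nat_lit 171, nat_lit 1, nat_lit 0x57)] (by decide +kernel) x2 c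
theorem cos2 {x : N} (x2 : x * x = 1) (c : IsConj (evw A [4, 6]) (πN x)) : ∃ w ∈ [we1, wte1], IsConj (evw el w) x :=
  cos _ _ [(nat_lit 0, nat_lit 0, nat_lit 0xcbadcbecbadcbfdc), (nat_lit 1, nat_lit 1, nat_lit 0xcbadcbecbadcbfdc), (nat_lit 2, nat_lit 1, nat_lit 0xcbad5cbecbadcbfdc), (nat_lit 3, nat_lit 0, nat_lit 0xcbad5cbecbadcbfdc), (nat_lit 8, nat_lit 0, nat_lit 0x9cbadcbecbadcbfdc), (nat_lit 9, nat_lit 1, nat_lit 0x9cbadcbecbadcbfdc), (nat_lit 10, nat_lit 1, nat_lit 0xc3badcbecbadcbfdc), (nat_lit 11, nat_lit 0, nat_lit 0xc3badcbecbadcbfdc), (nat_lit 32, nat_lit 0, nat_lit 0xcba7dcbecbadcbfdc), (nat_lit 33, nat_lit 1, nat_lit 0xcba7dcbecbadcbfdc), (nat_lit 34, nat_lit 1, nat_lit 0xcba9dcbecbadcbfdc), (nat_lit 35, nat_lit 0, nat_lit 0xcba9dcbecbadcbfdc), (nat_lit 40, nat_lit 1, nat_lit 0xcb2adcbecbadcbfdc), (nat_lit 41, nat_lit 0, nat_lit 0xcb2adcbecbadcbfdc), (nat_lit 42, nat_lit 0, nat_lit 0x3cbadcbecbadcbfdc), (nat_lit 43, nat_lit 1, nat_lit 0x3cbadcbecbadcbfdc), (nat_lit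 128, nat_lit 1, nat_lit 0xc6badcbecbadcbfdc), (nat_lit 129, nat_lit 0, nat_lit 0xc6badcbecbadcbfdc), (nat_lit 130, nat_lit 1, nat_lit 0xc2badcbecbadcbfdc), (nat_lit 131, nat_lit 0, nat_lit 0xc2badcbecbadcbfdc), (nat_lit 136, nat_lit 1, nat_lit 0xcb7adcbecbadcbfdc), (nat_lit 137, nat_lit 0, nat_lit 0xcb7adcbecbadcbfdc), (nat_lit 138, nat_lit 1, nat_lit 0x7cbadcbecbadcbfdc), (nat_lit 139, nat_lit 0, nat_lit 0x7cbadcbecbadcbfdc), (nat_lit 160, nat_lit 0, nat_lit 0xc8badcbecbadcbfdc), (nat_lit 161, nat_lit 1, nat_lit 0xc8badcbecbadcbfdc), (nat_lit 162, nat_lit 0, nat_lit 0x5cbadcbecbadcbfdc), (nat_lit 163, nat_lit 1, nat_lit 0x5cbadcbecbadcbfdc), (nat_lit 168, nat_lit 1, nat_lit 0xc7badcbecbadcbfdc), (nat_lit 169, nat_lit 0, nat_lit 0xc7badcbecbadcbfdc), (nat_lit 170, nat_lit 1, nat_lit 0xcba2dcbecbadcbfdc), (nat_lit 171, nat_lit 0, nat_lit 0xcba2dcbecbadcbfdc)] (by decide +kernel) x2 c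
theorem cos3 {x : N} (x2 : x * x = 1) (c : IsConj (evw A [3, 4, 6]) (πN x)) : ∃ w ∈ [wts, ws, we2], IsConj (evw el w) x :=
  cos _ _ [(nat_lit 0, nat_lit 0, nat_lit 0xcbadcbecbadcbecf), (nat_lit 1, nat_lit 1, nat_lit 0xcbadcbecbadcbecf), (nat_lit 2, nat_lit 2, nat_lit 0xbcb2adcbecbadcbfdc), (nat_lit 3, nat_lit 2, nat_lit 0x7bcbadcbecbadcbfdc), (nat_lit 4, nat_lit 2, nat_lit 0x9cbadcbecbadcbecf), (nat_lit 5, nat_lit 2, nat_lit 0xcbadcbecbadcbecf), (nat_lit 8, nat_lit 1, nat_lit 0x7cbadcbecbadcbecf), (nat_lit 9, nat_lit 0, nat_lit 0x7cbadcbecbadcbecf), (nat_lit 10, nat_lit 2, nat_lit 0xb5cbadcbecbadcbfdc), (nat_lit 11, nat_lit 2, nat_lit 0x3bcbadcbecbadcbfdc), (nat_lit 12, nat_lit 2, nat_lit 0xc2badcbecbadcbecf), (nat_lit 13, nat_lit 2, nat_lit 0x7cbadcbecbadcbecf), (nat_lit 32, nat_lit 2, nat_lit 0x3cbadcbecbadcbfdc), (nat_lit 33, nat_lit 2, nat_lit 0xcba2dcbecbadcbfdc), (nat_lit 34, nat_lit 2, nat_lit 0xbcbadcbecbadcbfdcb), (nat_lit 35, nat_lit 2, nat_lit 0x3bacbadcbecbadcbfdc),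 (nat_lit 36, nat_lit 2, nat_lit 0x3cbdcecbadcbfdd0f), (nat_lit 37, nat_lit 2, nat_lit 0xcbdc2ecbadcbfdd0f), (nat_lit 40, nat_lit 2, nat_lit 0xc7badcbecbadcbfdc), (nat_lit 41, nat_lit 2, nat_lit 0xc8badcbecbadcbfdc), (nat_lit 42, nat_lit 2, nat_lit 0x3bcbadcbecbadcbfdcb), (nat_lit 43, nat_lit 2, nat_lit 0xbacbadcbecbadcbfdc), (nat_lit 44, nat_lit 2, nat_lit 0xc7bdcecbadcbfdd0f), (nat_lit 45, nat_lit 2, nat_lit 0xc8bdcecbadcbfdd0f), (nat_lit 64, nat_lit 2, nat_lit 0xbc3badcbecbadcbecf), (nat_lit 65, nat_lit 2, nat_lit 0xb7cbadcbecbadcbecf), (nat_lit 66, nat_lit 2, nat_lit 0x3bcbdcecbadcbfdd0f), (nat_lit 67, nat_lit 2, nat_lit 0xb5cbdcecbadcbfdd0f), (nat_lit 68, nat_lit 2, nat_lit 0xbcbadcbecbadfdcbec), (nat_lit 69, nat_lit 2, nat_lit 0x3bacbadcbecbadcbecf), (nat_lit 72, nat_lit 2, nat_lit 0xbcbadcbecbadcbecf), (nat_lit 73, nat_lit 2, nat_lit 0x9bcbadcbecbadcbecf), (nat_lit 74, nat_lit 2, nat_lit 0x7bcbdcecbadcbfdd0f), (nat_lit 75, nat_lit 2, nat_lit 0xbcb2dcecbadcbfdd0f), (nat_lit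 76, nat_lit 2, nat_lit 0x3bcbadcbecbadfdcbec), (nat_lit 77, nat_lit 2, nat_lit 0xbacbadcbecbadcbecf), (nat_lit 102, nat_lit 2, nat_lit 0x3bcbdcecbadcbfdcc0f), (nat_lit 103, nat_lit 2, nat_lit 0xbacbdcecbadcbfdd0f), (nat_lit 110, nat_lit 2, nat_lit 0xbcbdcecbadcbfdcc0f), (nat_lit 111, nat_lit 2, nat_lit 0x3bacbdcecbadcbfdd0f), (nat_lit 128, nat_lit 0, nat_lit 0x3cbadcbecbadcbecf), (nat_lit 129, nat_lit 1, nat_lit 0x3cbadcbecbadcbecf), (nat_lit 130, nat_lit 2, nat_lit 0xbc3badcbecbadcbfdc), (nat_lit 131, nat_lit 2, nat_lit 0xb7cbadcbecbadcbfdc), (nat_lit 132, nat_lit 2, nat_lit 0x3cbadcbecbadcbecf), (nat_lit 133, nat_lit 2, nat_lit 0xcba2dcbecbadcbecf), (nat_lit 136, nat_lit 0, nat_lit 0xc7badcbecbadcbecf), (nat_lit 137, nat_lit 1, nat_lit 0xc7badcbecbadcbecf), (nat_lit 138, nat_lit 2, nat_lit 0xbcbadcbecbadcbfdc), (nat_lit 139, nat_lit 2, nat_lit 0x9bcbadcbecbadcbfdc), (nat_lit 140, nat_lit 2, nat_lit 0xc7badcbecbadcbecf), (nat_lit 141, nat_lit 2, nat_lit 0xc8badcbecbadcbecf),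 (nat_lit 160, nat_lit 2, nat_lit 0x9cbadcbecbadcbfdc), (nat_lit 161, nat_lit 2, nat_lit 0xcbadcbecbadcbfdc), (nat_lit 162, nat_lit 2, nat_lit 0x7bacbadcbecbadcbfdc), (nat_lit 163, nat_lit 2, nat_lit 0xbac7badcbecbadcbfdc), (nat_lit 164, nat_lit 2, nat_lit 0x9cbdcecbadcbfdd0f), (nat_lit 165, nat_lit 2, nat_lit 0xcbdcecbadcbfdd0f), (nat_lit 168, nat_lit 2, nat_lit 0xc2badcbecbadcbfdc), (nat_lit 169, nat_lit 2, nat_lit 0x7cbadcbecbadcbfdc), (nat_lit 170, nat_lit 2, nat_lit 0xba5cbadcbecbadcbfdc), (nat_lit 171, nat_lit 2, nat_lit 0x7bcbadcbecbadcbfdcb), (nat_lit 172, nat_lit 2, nat_lit 0xc2bdcecbadcbfdd0f), (nat_lit 173, nat_lit 2, nat_lit 0x7cbdcecbadcbfdd0f), (nat_lit 192, nat_lit 2, nat_lit 0xbcb2adcbecbadcbecf), (nat_lit 193, nat_lit 2, nat_lit 0x7bcbadcbecbadcbecf), (nat_lit 194, nat_lit 2, nat_lit 0x9bcbdcecbadcbfdd0f), (nat_lit 195, nat_lit 2, nat_lit 0xbcbdcecbadcbfdd0f), (nat_lit 196, nat_lit 2, nat_lit 0x7bacbadcbecbadcbecf), (nat_lit 197, nat_lit 2, nat_lit 0xbac7badcbecbadcbecf),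 (nat_lit 200, nat_lit 2, nat_lit 0xb5cbadcbecbadcbecf), (nat_lit 201, nat_lit 2, nat_lit 0x3bcbadcbecbadcbecf), (nat_lit 202, nat_lit 2, nat_lit 0xb7cbdcecbadcbfdd0f), (nat_lit 203, nat_lit 2, nat_lit 0xbc3bdcecbadcbfdd0f), (nat_lit 204, nat_lit 2, nat_lit 0xba5cbadcbecbadcbecf), (nat_lit 205, nat_lit 2, nat_lit 0x7bcbadcbecbadfdcbec), (nat_lit 230, nat_lit 2, nat_lit 0xba5cbdcecbadcbfdd0f), (nat_lit 231, nat_lit 2, nat_lit 0x7bcbdcecbadcbfdcc0f), (nat_lit 238, nat_lit 2, nat_lit 0x7bacbdcecbadcbfdd0f), (nat_lit 239, nat_lit 2, nat_lit 0xbac7bdcecbadcbfdd0f)] (by decide +kernel) x2 c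
theorem cos4 {x : N} (x2 : x * x = 1) (c : IsConj (evw A [0, 3, 6]) (πN x)) : ∃ w ∈ [we3], IsConj (evw el w) x :=
  cos _ _ [(nat_lit 0, nat_lit 0, nat_lit 0x0), (nat_lit 1, nat_lit 0, nat_lit 0x542), (nat_lit 26, nat_lit 0, nat_lit 0x942), (nat_lit 27, nat_lit 0, nat_lit 0x95), (nat_lit 34, nat_lit 0, nat_lit 0x54), (nat_lit 35, nat_lit 0, nat_lit 0x2), (nat_lit 56, nat_lit 0, nat_lit 0x952), (nat_lit 57, nat_lit 0, nat_lit 0x94), (nat_lit 76, nat_lit 0, nat_lit 0x752), (nat_lit 77, nat_lit 0, nat_lit 0x3), (nat_lit 86, nat_lit 0, nat_lit 0x953), (nat_lit 87, nat_lit 0, nat_lit 0x972), (nat_lit 110, nat_lit 0, nat_lit 0x75), (nat_lit 111, nat_lit 0, nat_lit 0x32), (nat_lit 116, nat_lit 0, nat_lit 0x9532), (nat_lit 117, nat_lit 0, nat_lit 0x97), (nat_lit 128, nat_lit 0, nat_lit 0x52), (nat_lit 129, nat_lit 0, nat_lit 0x4), (nat_lit 154, nat_lit 0, nat_lit 0x92), (nat_lit 155, nat_lit 0, nat_lit 0x954), (nat_lit 162, nat_lit 0, nat_lit 0x42), (nat_lit 163, nat_lit 0, nat_lit 0x5),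 (nat_lit 184, nat_lit 0, nat_lit 0x9542), (nat_lit 185, nat_lit 0, nat_lit 0x9), (nat_lit 204, nat_lit 0, nat_lit 0x7), (nat_lit 205, nat_lit 0, nat_lit 0x532), (nat_lit 214, nat_lit 0, nat_lit 0x975), (nat_lit 215, nat_lit 0, nat_lit 0x932), (nat_lit 238, nat_lit 0, nat_lit 0x72), (nat_lit 239, nat_lit 0, nat_lit 0x53), (nat_lit 244, nat_lit 0, nat_lit 0x9752), (nat_lit 245, nat_lit 0, nat_lit 0x93)] (by decide +kernel) x2 c
theorem invN : InvN := fun x x2 => by
  obtain ⟨r, hr, c⟩ := invSp (πN x) (by rw [← map_mul, x2, map_one])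
  simp only [List.mem_cons, List.not_mem_nil, or_false] at hr
  rcases hr with rfl | rfl | rfl | rfl | rfl
  · exact (cos0 x2 c).imp fun w h => ⟨(by decide : ∀ w ∈ _, w ∈ RP) w h.1, h.2⟩
  · exact (cos1 x2 c).imp fun w h => ⟨(by decide : ∀ w ∈ _, w ∈ RP) w h.1, h.2⟩
  · exact (cos2 x2 c).imp fun w h => ⟨(by decide : ∀ w ∈ _, w ∈ RP) w h.1, h.2⟩
  · exact (cos3 x2 c).imp fun w h => ⟨(by decide : ∀ w ∈ _, w ∈ RP) w h.1, h.2⟩
  · exact (cos4 x2 c).imp fun w h => ⟨(by decide : ∀ w ∈ _, w ∈ RP) w h.1, h.2⟩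
theorem κQ {v : ℕ} (h : (κw v).all (Nat.blt · 9) = true) : κ v ∈ ιN.range :=
  evw_mem (K := ιN.range) (k := 9) (fun x hx => ⟨_, ιx x (mkT (tp.R x 0)) hx (by revert x; decide +kernel)⟩)
    fun x hx => blt1 (List.all_eq_true.1 h x hx)
theorem cosS : CosS := fun x y cx cy e => by
  have x2 : x * x = 1 := sq_of_isConj cx (κ2 65)
  have y2 : y * y = 1 := sq_of_isConj cy (κ2 4)
  have : πN y = 1 := by
    obtain ⟨k, rfl⟩ := isConj_iff.1 cy
    exact kerπ.2 (nmQ.conj_mem _ (κQ (v := 4) (by decide +kernel)) k)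
  refine cos3 (by rw [mul_assoc, ← mul_assoc y, ← e, mul_assoc, y2, mul_one, x2]) ?_
  rw [map_mul, this, mul_one]
  refine IsConj.trans (IsConj.symm (isConj_iff.2 ⟨evw A [5, 2, 4, 1, 2, 3, 0, 1, 2, 4, 1, 2, 3, 0, 1, 2], ?_⟩)) (πN.map_isConj cx)
  rw [πw (by decide +kernel), mul_inv_eq_iff_eq_mul, ← evw_append, ← evw_append]
  exact A_eq _ _ (by decide +kernel)

theorem esZ : CfH4.ES2 Zp := ⟨by decide +kernel, Zc, by decide +kernel, CfH5.Nat.cmP, fun x h =>
  (em (x = 1)).imp id fun n => (cZp x).1 ⟨h, n⟩⟩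
theorem cnt {B : Subgroup Tp} {l : List ℕ} (h : ∀ a ∈ B, a.1 ∈ l) :
    Nat.card B ≤ l.length ∧ (l.length ≤ Nat.card B → ∀ i ∈ l, ∃ a ∈ B, a.1 = i) := by
  have s : Subtype.val '' (B : Set Tp) ⊆ l.toFinset := by rintro _ ⟨a, ha, rfl⟩; exact List.mem_toFinset.2 (h a ha)
  have c : (Subtype.val '' (B : Set Tp)).ncard = Nat.card B := Set.ncard_image_of_injective _ Subtype.val_injective
  have d : (l.toFinset : Set ℕ).ncard ≤ l.length := by rw [Set.ncard_coe_finset]; exact List.toFinset_card_le l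
  exact ⟨c ▸ (Set.ncard_le_ncard s).trans d, fun k i hi =>
    (Set.eq_of_subset_of_ncard_le s (d.trans (c ▸ k))).ge (List.mem_toFinset.2 hi)⟩
noncomputable def fxs (ws : List (List ℕ)) : List ℕ := (List.range 512).filter fun q => Nat.beq (mkT q * mkT q).1 0 &&
  ws.all fun w => frc (sR.trL (w.map (· + 9)) q) fun j => Nat.beq j q || Nat.beq j (Zp * mkT q).1
section
variable {E : Subgroup N} (e2 : ∀ x ∈ E, x * x = 1)
include e2
theorem ecm {x y : N} (hx : x ∈ E) (hy : y ∈ E) : x * y = y * x := by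
  rw [← inv_eq_of_mul_eq_one_right (e2 _ (mul_mem hx hy)), mul_inv_rev, inv_eq_of_mul_eq_one_right (e2 _ hx),
    inv_eq_of_mul_eq_one_right (e2 _ hy)]
theorem mfx {ws : List (List ℕ)} (h : ∀ w ∈ ws, allLt 7 w = true ∧ ∃ x, πN x = evw A w ∧ ∀ y ∈ E, y * x = x * y) :
    ∀ a ∈ E.comap ιN, a.1 ∈ fxs ws := fun a ha => by
  refine List.mem_filter.2 ⟨List.mem_range.2 a.2, ?_⟩
  rw [mkT_eq, show a * a = 1 from ιinj (by rw [map_mul, map_one]; exact e2 _ ha), Bool.and_eq_true]
  refine ⟨rfl, List.all_eq_true.2 fun w hw => ?_⟩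
  obtain ⟨h1, x, h2, h3⟩ := h w hw
  obtain ⟨t, rfl⟩ := lift h1 h2
  have l : allLt 16 (w.map (· + 9)) = true := allLt_of fun y hy => by
    obtain ⟨z, hz, rfl⟩ := List.mem_map.1 hy
    have := allLt_sound h1 z hz
    omega
  have k := wdR (allLt_sound l) a
  have m : (evw eR (w.map (· + 9)))⁻¹ a = t * a * t⁻¹ := ιinj (by
    rw [← (L.evw LN (allLt_sound l)).inv a, inv_inv, map_mul, map_mul, map_inv, eq_mul_inv_iff_mul_eq, mul_assoc, mul_assoc,
      h3 _ ha, mul_assoc, inv_mul_cancel_left])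
  rw [frc_eq, ← k, m]
  rcases CfH5.Nat.cmP t a with e | e <;> rw [e] <;> simp [mul_assoc]
theorem cE_eq : Nat.card E = Nat.card (E.map πN) * Nat.card (E.comap ιN) := by
  have a := (πN.domRestrict E).ker.card_mul_index
  rw [index_ker, MonoidHom.domRestrict_range, MonoidHom.ker_domRestrict, show πN.ker = ιN.range from Subgroup.ext fun _ => kerπ,
    ← inf_subgroupOf_right, card_subgroupOf inf_le_right, ← map_comap_eq, card_map_of_injective ιinj] at a
  rw [← a, mul_comm]
theorem le32 : Nat.card (E.comap ιN) ≤ 32 := by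
  have a := esZ.card_centralizer_mul (E.comap ιN)
  have b := card_le_of_le (inf_le_right : E.comap ιN ⊓ center Tp ≤ _)
  have c := card_le_of_le (H := E.comap ιN) (K := centralizer (E.comap ιN : Set Tp)) fun x hx y hy =>
    ιinj (by rw [map_mul, map_mul]; exact ecm e2 hy hx)
  rw [esZ.card_center] at b
  rw [show Nat.card Tp = 512 from TE.card] at a
  nlinarith
theorem ep : ∀ x ∈ E.map πN, x * x = 1 := by rintro _ ⟨x, hx, rfl⟩; rw [← map_mul, e2 x hx, map_one]
theorem core (h : 32 ≤ Nat.card (E.comap ιN)) {x : N} (hx : ∀ y ∈ E, y * x = x * y) {r : List ℕ}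
    (hr : r ∈ [[3], [4, 6], [0, 3, 6]]) (e : πN x = evw A r) : E ≤ VV := fun y hy => cenU fun v hv => by
  have k := (by decide +kernel : ∀ r ∈ [[3], [4, 6], [0, 3, 6]], allLt 7 r = true ∧ ((fxs [r]).length < 32 ∨
    (fxs [r]).length ≤ 32 ∧ ∀ v ∈ [21, 32, 5, 56], ∃ i ∈ fxs [r], cE (κw v) (tp.wl i) = true)) r hr
  have c := cnt (mfx e2 (ws := [r]) (forall_cons ⟨k.1, x, e, hx⟩ forall_nil))
  obtain ⟨i, a, b⟩ := (k.2.resolve_left (by omega)).2 v hv
  obtain ⟨t, ht, rfl⟩ := c.2 (((k.2.resolve_left (by omega)).1).trans h) i a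
  rw [show κ v = ιN t from (cE_ok _ _ b).trans (ιw t).symm]
  exact ecm e2 hy ht
end
theorem cjE (E : Subgroup N) (k : N) : ∃ F : Subgroup N, Nat.card F = Nat.card E ∧ ∀ x, k * x * k⁻¹ ∈ F ↔ x ∈ E :=
  ⟨E.map (MulAut.conj k).toMonoidHom, card_map_of_injective (MulAut.conj k).injective, fun x =>
    mem_map_iff_mem (f := (MulAut.conj k).toMonoidHom) (MulAut.conj k).injective⟩
theorem bk (k y : N) : y = k * (k⁻¹ * y * k) * k⁻¹ := by group
theorem big {E : Subgroup N} (e2 : ∀ x ∈ E, x * x = 1) (h : 1024 ≤ Nat.card E) : 32 ≤ Nat.card (E.comap ιN) := by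
  by_contra n
  have a := cE_eq e2
  obtain ⟨i, -, b⟩ := (Nat.dvd_prime_pow Nat.prime_two (m := 9)).1 ((card_subgroup_dvd_card (E.comap ιN)).trans
    (dvd_of_eq TE.card))
  have c : Nat.card (E.comap ιN) ≤ 16 := by
    have : i < 5 := by by_contra k; have := Nat.pow_le_pow_right (n := 2) (by decide) (not_lt.1 k); omega
    have := Nat.pow_le_pow_right (n := 2) (by decide) (show i ≤ 4 by omega)
    omega
  obtain ⟨-, k, hk⟩ := JS2 _ (ep e2) (by nlinarith)
  obtain ⟨F, f1, f2⟩ := cjE E (σN k)⁻¹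
  have f3 : ∀ x ∈ F, x * x = 1 := fun x hx => by rw [bk (σN k)⁻¹ x] at hx ⊢; exact sq_cj _ (e2 _ ((f2 _).1 hx))
  have d := (cnt (mfx f3 (ws := OW) fun o ho => ⟨allLt_of (OW_lt o ho), by
    obtain ⟨x, x1, x2⟩ := hk o ho
    exact ⟨_, by simp [πσ, x2, mul_assoc], fun y hy => ecm f3 hy ((f2 x).2 x1)⟩⟩)).1
  have f4 := cE_eq f3
  have f5 := le32 f3
  have := (JS2 _ (ep f3) (by rw [show (fxs OW).length = 4 by decide +kernel] at d; nlinarith)).1
  rw [show (fxs OW).length = 4 by decide +kernel] at d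
  nlinarith
theorem JA {E : Subgroup N} (e2 : ∀ x ∈ E, x * x = 1) (h : 1024 ≤ Nat.card E) : ∃ k, ∀ x ∈ E, k * x * k⁻¹ ∈ VV := by
  have a := cE_eq e2
  have b := le32 e2
  obtain ⟨_, ⟨x, hx, rfl⟩, r, hr, c⟩ := JS1 _ (ep e2) (by nlinarith)
  obtain ⟨k, e⟩ := down c
  obtain ⟨F, f1, f2⟩ := cjE E k
  have f3 : ∀ x ∈ F, x * x = 1 := fun x hx => by rw [bk k x] at hx ⊢; exact sq_cj _ (e2 _ ((f2 _).1 hx))
  exact ⟨k, fun y hy => core f3 (big f3 (f1 ▸ h)) (fun y hy => ecm f3 hy ((f2 x).2 hx)) hr e ((f2 y).2 hy)⟩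
theorem JA' {E : Subgroup N} (e2 : ∀ x ∈ E, x * x = 1) (h : 1024 ≤ Nat.card E) (hd : ∀ y ∈ E, y * κ 2 = κ 2 * y) : E ≤ VV :=
  core e2 (big e2 h) hd List.mem_cons_self (πw (w := [12]) rfl)

def GW : List (List ℕ) := [[9, 10, 11, 12, 14, 12, 11, 13], [10, 9, 11, 12, 14, 12, 11], [11, 10, 9, 12, 11, 10, 13, 11, 12, 14, 15, 14, 12, 11, 10, 9, 13, 11, 10, 12, 11], [1], [2], [3], [4], [5], [6], [7], [8]]
def GM : List (List ℕ) := [[1, 2, 60, 4, 8, 16, 960, 64, 128, 256], [1, 2, 4, 32, 8, 60, 64, 512, 128, 960], [1, 2, 4, 57, 37, 21, 64, 194, 322, 578], [1, 2, 4, 8, 16, 32, 64, 128, 256, 512], [1, 27, 4, 9, 17, 32, 69, 156, 312, 545], [1, 2, 4, 8, 16, 32, 64, 128, 256, 512], [1, 43, 4, 9, 16, 33, 69, 148, 256, 556], [1, 2, 4, 8, 16, 32, 64, 128, 256, 512], [1, 34, 5, 9, 17, 32, 116, 148, 312, 512], [1, 2, 4, 8, 16, 32, 64, 128, 256, 512], [1, 55, 4, 9, 16, 32, 64, 148, 273, 545]]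
theorem cjG : ∀ j < 11, ∀ v, byW el GW j * κ v * (byW el GW j)⁻¹ = κ (lin (GM.getD j []) v 10) := fun j hj =>
  cjM _ _ ((by decide +kernel : ∀ j < 11, okM (GW.getD j []) (GM.getD j []) = true) j hj)
noncomputable def linW (w : List ℕ) (v : ℕ) : ℕ := w.foldl (fun v j => frc (lin (GM.getD j []) v 10) id) v
theorem linW_ind {P : ℕ → Prop} {k : ℕ} (h : ∀ j < k, ∀ v, P v → P (lin (GM.getD j []) v 10)) {w : List ℕ}
    (hw : allLt k w = true) : ∀ v, P v → P (linW w v) := by
  replace hw := allLt_sound hw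
  induction w with
  | nil => exact fun _ => id
  | cons j w ih => exact fun v hv => ih (fun y hy => hw y (List.mem_cons_of_mem _ hy)) _ (by
      beta_reduce; rw [frc_eq]; exact h j (hw j List.mem_cons_self) v hv)
noncomputable def lab (v : ℕ) : ℕ := [0, 1, 2, 3, 4, 64, 65, 66, 67, 72].getD (Nat.land (Nat.shiftRight (nat_lit 0x8756879987998799879987997865789987997865879978998799789978998765997899879987998799879987998799786578998799875687657899789978658799789987998799876578657899879978998799879987997899879978568765879978998799879987998799879987997865786578998799789987997856876587997899876578998799879987998756879987998765789978998799789978658799789987657899879987998765789978998799879987568799879978997865875687998799879987998765789987997899879987657899789987997899786587789987998799879978658799879987568799879987997899786578997899876599786578998765789987998799879978998799879987997899875687997865875687998799876578998799879987997899879987998799786578997899786587997899879987998765789987657899789987998799879978998756879978658778997865879987998799786587997899879987998799875687997899789987659978657899879987998799879987568799876578998799789987997899786587789987998799879987998799879978997865879978657899879987567899876578998799786578658799879987997899879987998799789987997899875687653244234423442344234423442344324423442344234432442344324432443210)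 (4 * v)) 15) 0
noncomputable def labW (v : ℕ) : List ℕ := Tab.dec 10 (Nat.land (Nat.shiftRight (nat_lit 0x71700000007170000000071000000007100000000910000000091000000007100000000150000000019000000001900000001320000000b1200000000150000000015000731322100031352210000000971000000097100000007120000000172000000001700000000170003131111000b313221000000001b000000001b00000000b100000000b100000009510000000951000000001900000000b10000000197000000019700000000910000000b710000000051000000005100000000910000000091000000007100000000710009313221000312293100000000b100000000b10000000512000000001200000007510000000751000031322100053132210000000b510000000b51000000091200000027110000000b710000000b71000000001b00000000010000000001000000000100000000010000000001000019322100000132210000007531000000753100000053120000003912000000073100000007310000007312000000b31200000003190000000319000091322100001352210000000315000000031500001311110000b132210000000931000000093100000037120000009312000000953100000095310000000312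00000035120000000b310000000b31000012293100005132210000000371000000037100000005310000000531000000035100000003510000000391000000053100000053510000005351000000073100000003190000009731000000973100000007310000000731000000031b000000031b00000009310000000931000000937100000093710000000931000000037100000003910000000391000000031b0000000031000000053100000005310000000031000000003100000000310000000031000001321b000000132100000173210000017321000005132100000b132100000193210000019321000001311100007131110000013521000001352100005131110000b1311100000b132100000b132100000913210000091321000013191100001319110000017321000001732100000713210000071321000031532100003913210000013215000001321500009313210000319321000001532100000153210000013212000071321200000513210000051321000091311100001531110000013219000001321900000193210000017321000031532100003153210000091321000001532100000132910000013291000003132100007313210000091321000009132100005313210000221321000001b321000001b32100000513210000051321000001321b000001321b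000000132100000013210000001321000000132100000191310000015131000001b131000001b13100000131310000091131000009113100000911310000171312000015131200002b132100002b13210000213111000091131200000b113100000b11310000213212000071131200000711310000071131000001131200005113120000011b310000011b3100000b1131000007113100002913210000291321000001131b00000011310000011531000001153100000151310000015131000027132100002713210000091131000009113100000511310000051131000003113100002b13210000011931000001193100005213210000021321000001513100000151310000219321000021732100000191310000019131000092132100002153210000017131000001713100000711310000071131000001131b000001131b0000001131000000113100000011310000001131000031b311000031931100000713110000071311000000131100000b1311000005131100000513110000019311000001931100000b131100000b13110000021731000005213100000131150000013115000007131100000131190000015311000001531100003713110000531311000002913100000291310000032131000002153100000193110000019311000005131100000513110000091311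00000913110000013112000035131100000219310000021931000001531100000513110000021b310000021b31000007131100000713110000017311000001731100000921310000002131000001b311000001b3110000019311000001b3110000013191000001319100009313110000031311000002713100000271310000029131000007213100000135110000013511000000131100000013110000001311000000131100009121310000172131000051131100005113110000511311000011b31100007113110000711311000091131100009113110000b113110000b113110000113112000135131100001219310000121931000051213100001215310000119311000011931100001713110000911311000011531100001153110000511311000051131100001b131100001b1311000131b31100002221310000171311000017131100000113110000b1131100001513110000151311000031131100007121310000113115000011311500071313110001531311000091131100009113110000711311000071131100001913110000191311000071131100001513110000121b310000121b310000b121310000012131000011b311000011b3110001931311000013131100001271310000127131000001131100000113110000011311000001131100000053110000005311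000000315100000031510000003112000003911200000031b100000031b100001193210000911321000000931100000093110000005311000007531100000937110000093711000009311200000b3112000005351100000535110000003711000000371100000073110000007311000000371100000031190000005311000000531100007113210000011321000000b311000000b311000051132100001b1321000000311500000031150000009311000000b3110000003191000000319100000093110000009311000000391100000039110000031b12000003711200000031190000003119000000031100000073110000075311000007531100001913210000115321000000351100000035110000031912000003222100000037110000003711000000031100000003110000000311000000031100000075110000007511000000091100000000110000000511000000051100013132210003191321000000017100000001710005311321000b3113210000007171000000717100000001910000007511000000011b000000011b0000000711000000071100000019710000001971000000171200000051120000000119000000011900000071120000001b1200000009110000000911000000051100000005110000000191000000019100000005110000000b110000000115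0000000115000351132100031b13210000000b110000000b1100003113210003711321000000b711000000b71100000001190000000711000000015100000001510000000191000000019100000001b100000001b10000009112000000011200000007110000000711000000191200000022210000000011000000001100000000110000000011000000131b00000001310000001531000000153100000051310000005131000009513100000951310000001731000000131900000197310000019731000000b131000000b13100000013510000001351000000131200000135120000001b310000001b3100000313120000313512000000193100000019310000017312000001b312000000131900000013190000351312000011322100000051310000005131000001531200000b13120000001731000000173100003153120000b313120000009131000000913100000713120000051312000003513100000351310000731312000053131200000071310000007131000000313100000015310000031531000003153100000017310000001731000000131b000000131b00000091310000005131000000b131000000b131000000013100000001310000000131000000013100005213110000521311000029131100002913110000322131000022153100002193110000219311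00001311310000522131000011193100001119310000b213110000b2131100002b131100002b1311000071113100005111310000921311000092131100005213110000721311000017113100001711310000b21311000021b31100005213110000521311000011913100003213110000227131000022713100009111310000191131000019113100001911310000921311000021311900002153110000215311000002131100002b131100007213110000721311000011131b000001113100002713110000271311000092131100009213110000217311000021731100002921310000022131000021b311000021b311000092213100002721310000b213110000b2131100000213110000021311000002131100000213110009213221000113131100000053210000005321000000321200000372120000002b310000002b310005213221000b2132210000003215000000321500000b31110000053111000000321900000032190000007321000000732100000037210000003721000000932100000073210000053521000005352100000053210000005321000003191100000319110000002931000000532100000032910000003291000003119100000351110000003921000000392100021311110002b1322100000029310000002931000000311100000371110000003521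000000352100021932210000213221000000b321000000b321000000352100000039210000009321000000932100000035210000003521000000321b000000321b000000321b00000003210000007321000000732100000003210000000321000000032100000003210000001711000000171100000009210000000521000000021b000000021b0000000521000000052100000002150000000215000131132100b321322100000002190000000219000000b1110000001b11000000527100000052710000000291000000b52100000007210000000721000000029100000002910000000b210000000b2100032132210073213221000000052100000005210000007111000000011100000002170000000217003213111100932132210000000921000000092100000011910000005111000000029100000002910000000b210000000215000000191100000019110000000b210000000b21000000027100000002710031131311003921322100000002b100000002b100000072120000000212000000b521000000b521000000021b00000000210000000021000000002100000000210000000021000002293100000732210000031921000003192100000731210000073121000031191100003119110000031b2100000731210000039121000003912100071111310001191131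0000032215000003221500000b31210000037121000003292100000329210001711131000b1111310000031b210000031b21000003111100000392210000029321000002932100000b312100000b312100000931210000093121000002932100000352210000031219000003121900000351210000035121000005312100000531210000035121000003192100000b312100000b31210001119131000132131100000731210000073121000000312100000531210000037121000003712100051111310000111131000002b321000002b3210000093221000000322100000351210000035121000000312100000031210000003121000000312100000071210000007121000000121b00000001210000002b210000002b2100031111310035111131000000912100000091210000001b21000000121500000022150000002215002131132100311911310000001b210000001b21001321322100b311113100000029210000002921000000912100000071210000002271000000227100313213110031119131000000b121000000b1210000001921000000512100000027210000002721000000512100000051210000001219000000121900000022910000005221000000172100000017210000007121000000712100000015210000001521000000922100000011110000001921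00000019210000002b210000002215000001191100000119110000001b210000001b2100000051210000005121000000221b000000022100000001210000000121000000012100000001210000000b950000000b950000000009000000002200000000970000000097000000000300000000b3000000000b000000000b000000000900000000090000000075000000007500000000950000000095000000000700000000070131321311013111913100000000b500000000b501132132210913111131000000097500000009750000000052000000007200000000390000000039000000002b00000000020000000005000000000500131111310b13111131000000003500000000350121311321051311113100000000090000000009000000003200000000920000000529000000052900000000290000000222000000002900000000290000000093000000000500000000950000000095000000000b0000000000000000053500000005350000000005000000000500000000000000000000000000000000000000000000000029000000002900000000910000000001000000009500000000950000000131000000b131000000000b000000000b00000013110000051311000000007500000000750000021311000052131100000000b500000000b5000000132100000513210000000007000000000700000113210000511321000000001b000000001b00000003210000007321000000000900000000090000000711000000001100000000350000000035000000113100000711310000000005000000000500000213210000721321000000001700000000170000000311000000531100000000190000000019000000052100000000210000000015000000001500000000310000000531000000009700000000970000005121000000012100000005350000000535000000000900000000000000000000000000000000000000000000000000)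 (40 * v)) 1099511627775)
theorem clV {v : ℕ} (h : v < 1024) : IsConj (κ (lab v)) (κ v) := by
  have k := (by decide +kernel : ∀ v < 1024, allLt 11 (labW v) = true ∧ linW (labW v) (lab v) = v) v h
  have := linW_ind (P := fun u => IsConj (κ (lab v)) (κ u)) (fun j hj u hu => hu.trans (isConj_iff.2 ⟨_, cjG j hj u⟩)) k.1 _
    (IsConj.refl _)
  rwa [k.2] at this
noncomputable def Nf (v : ℕ) : ℕ := frc v fun v => Nat.xor v (Nat.xor (linW [0] v) (Nat.xor (linW [0, 0] v) (Nat.xor (linW [0, 0, 0] v) (linW [0, 0, 0, 0] v))))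
theorem Nf_ind {P : ℕ → Prop} (hx : ∀ u v, P u → P v → P (Nat.xor u v)) (h : ∀ j < 3, ∀ v, P v → P (lin (GM.getD j []) v 10))
    {w : List ℕ} (hw : allLt 3 w = true) {v : ℕ} (hv : P v) : P (Nf (linW w v)) := by
  have a := linW_ind h hw v hv
  rw [Nf, frc_eq]
  exact hx _ _ a (hx _ _ (linW_ind h rfl _ a) (hx _ _ (linW_ind h rfl _ a) (hx _ _ (linW_ind h rfl _ a) (linW_ind h rfl _ a))))
def F1 : List (List ℕ) := [[], [2], [0, 2], [0, 0, 2], [2, 0, 2], [0, 0, 0, 2], [0, 2, 0, 2], [1, 2, 0, 2], [0, 0, 2, 0, 2]]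
theorem W3 : ∀ v < 1024, (∀ w ∈ F1, Nf (linW w v) ≠ 1 ∧ Nf (linW w v) ≠ 2) → v = 0 ∨ v = 3 := by decide +kernel
theorem W2 : ∀ v < 1024, linW [1] v = v ∧ Nf v = 0 ∧ Nf (linW [0, 2] v) ≠ 1 ∧ Nf (linW [0, 2] v) ≠ 3 → v = 0 ∨ v = 64 := by
  decide +kernel
noncomputable abbrev fN : N := byW el GW 0
noncomputable abbrev kN : N := byW el GW 1
noncomputable abbrev yN : N := byW el GW 2
theorem cenF {n : N} (h : fN * n = n * fN) : evw A fX * πN n = πN n * evw A fX ∧ (n = σN (πN n) ∨ n = σN (πN n) * el 0) := by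
  have e : fN = σN (evw A fX) := (σw (w := fX) rfl).symm
  have a : evw A fX * πN n = πN n * evw A fX := by rw [← πσ (evw A fX), ← e, ← map_mul, h, map_mul]
  obtain ⟨t, b⟩ := nf n
  have c : fN * σN (πN n) = σN (πN n) * fN := by rw [e, ← map_mul, a, map_mul]
  rw [b, ← mul_assoc, c, mul_assoc, mul_assoc, mul_right_inj] at h
  have d := cjQ (w := GW.getD 0 []) rfl t
  change fN⁻¹ * _ * fN = _ at d
  rw [mul_assoc, ← h, inv_mul_cancel_left] at d
  refine ⟨a, ((by decide +kernel : ∀ t : Tp, t = mkT (sR.trL (GW.getD 0 []) t.1) → t = 1 ∨ t = Zp) t (ιinj d)).imp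
    (fun k => by rw [k, map_one, mul_one] at b; exact b) fun k => by rw [k, ιZ] at b; exact b⟩
def trk : List (List ℕ × List ℕ × List ℕ) := [(wd, [8], [9]), (wtd, [8], [9]), (we1, [8], [9]), (wte1, [8], [9]), (wts, [2], [6]), (ws, [2], [6]), (we2, [2], []), (we3, [2], [11, 13, 12, 11, 10, 9])]
theorem ktrk : ∀ r ∈ RP, r = [] ∨ r = [0] ∨ r = wa ∨ ∃ p ∈ trk, p.1 = r ∧ allLt 16 p.2.1 = true ∧
    cJ p.2.2 wa ((p.2.1 ++ r ++ p.2.1.reverse) ++ r) = true := by decide +kernel
theorem tz2 : IsConj (evw el we2) (evw el we2 * el 0) :=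
  isConj_iff.2 ⟨_, (cj_ok [8] we2 (we2 ++ [0])).trans (by simp)⟩
theorem tz3 : IsConj (evw el we3) (evw el we3 * el 0) :=
  isConj_iff.2 ⟨_, (cj_ok [1, 3, 4] we3 (we3 ++ [0])).trans (by simp)⟩
end CfH8.C2
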