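import Cfsg.Agent.OD.Pre
import Cfsg.Agent.H8.DD
import Cfsg.Agent.H8.DF.F0
import Cfsg.Agent.H8.DF.O
import Cfsg.Agent.H8.DF.P0
set_option autoImplicit false
set_option maxRecDepth 100000
set_option Elab.async false
set_option linter.all false
namespace CfH8.DF
open CfH6 CfH6.D MulAction
def σ : List (List ℕ) := [[0],
  [1],
  [2],
  [3],
  [4],
  [5],
  [6],
  [7],
  [8],
  [9],
  [10],
  [11],
  [12],
  [13],
  [14],
  [15]]
def uss : List (List (List ℕ)) := [[[], []],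
  [[2], [11, 14], [2], [11, 13, 11, 10, 12, 11, 13, 14, 12, 11, 10, 13, 15, 14, 12, 11, 13]],
  [[11, 14], [2], [11, 13, 11, 10, 12, 11, 13, 14, 12, 11, 10, 13, 15, 14, 12, 11, 13], [2]],
  [[2], [11, 13, 11, 10, 12, 11, 13, 14, 12, 11, 10, 13, 15, 14, 12, 11, 13], [2], [11, 14]],
  [[11, 13, 11, 10, 12, 11, 13, 14, 12, 11, 10, 13, 15, 14, 12, 11, 13], [2], [11, 14], [2]],
  [[4, 9], [4, 9], [4, 9], [4, 9], [4, 9], [4, 9], [4, 9], [4, 9], [4, 9], [4, 9], [4, 9]]]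
def bus : List (List ℕ × List ℕ) := [([9, 10, 11, 12, 14, 12, 11, 13], [13, 11, 12, 14, 12, 11, 10, 9]),
  ([10, 9, 11, 12, 14, 12, 11], [12, 0, 11, 12, 14, 12, 11, 9, 10]),
  ([11, 10, 9, 12, 11, 10, 13, 11, 12, 14, 15, 14, 12, 11, 10, 9, 13, 11, 10, 12, 11], [0, 5, 15, 14, 12, 11, 13, 10, 11, 12, 14, 15, 9, 10, 11, 12, 14, 13, 11, 12, 10, 11, 13, 9, 10, 11, 12, 14, 15, 11, 12, 10, 11]),
  ([5, 0], [14, 15, 12, 14, 13, 11, 12, 10, 11, 13, 9, 10, 11, 12, 14, 15, 10, 11, 13, 9, 10, 11, 12, 14, 13, 9, 10, 9]),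
  ([9, 10, 9, 13, 14, 12, 11, 10, 9, 13, 11, 10, 15, 14, 12, 11, 10, 9, 13, 11, 10, 12, 11, 13, 14, 12, 15, 14], [0, 5]),
  ([12], [0]),
  ([0], [12])]
def ex : List (List ℕ) := [[9, 10, 11, 12, 14, 12, 11, 13, 16, 13, 11, 12, 14, 12, 11, 10, 9, 16],
  [0, 11, 12, 14, 12, 11, 9, 10, 16, 10, 9, 11, 12, 14, 12, 11, 16, 12],
  [0, 5, 15, 14, 12, 11, 13, 10, 11, 12, 14, 15, 9, 10, 11, 12, 14, 13, 11, 12, 10, 11, 13, 9, 10, 11, 12, 14, 15, 11, 12, 10, 11, 16, 11, 10, 9, 12, 11, 10, 13, 11, 12, 14, 15, 14, 12, 11, 10, 9, 13, 11, 10, 12, 11, 16],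
  [0, 5, 16, 9, 10, 9, 13, 14, 12, 11, 10, 9, 13, 11, 10, 15, 14, 12, 11, 10, 9, 13, 11, 10, 12, 11, 13, 14, 12, 15, 14, 16],
  [0, 16, 12, 16]]
def gws : List (List ℕ) := uss.map (gw σ 16)
def bws : List (List ℕ) := bus.map fun u => subst σ u.1 ++ 16 :: (subst σ u.2 ++ [16])
theorem chk : Rng P.chk 0 553 := p0
section
variable {G : Type*} [Group G] (el : ℕ → G) (ρ : DN.G →* G) (hρ : ∀ x < 16, ρ (DN.el x) = byW el σ x)
include hρ
theorem trl : Trl ρ DD.cd DD.eq 16 el σ := ⟨DD.heq, fun x hx => by rw [DD.cdx x hx, hρ x hx]⟩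
theorem hbp (ht : el 16 = (el 16)⁻¹) (h : ∀ w ∈ bws, evw el w = 1) : ∀ p ∈ P.bp, ρ (DD.cd p.1) * el 16 = el 16 * ρ (DD.cd p.2) :=
  (trl el ρ hρ).bp _ _ ht _ bus h (by decide +kernel)
variable (H : Subgroup G) (hH : ∀ n, ρ n ∈ H) (hg : ∀ w ∈ gws, evw el w = 1)
  (hb : ∀ p ∈ P.bp, ρ (DD.cd p.1) * el 16 = el 16 * ρ (DD.cd p.2))
noncomputable def C : Ctx P DN.G G where
  ρ := ρ
  t := el 16
  H := H
  Bs := ⊤
  cd := DD.cd
  cd0 := DD.cd0
  heq := DD.heq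
  hH := fun _ => hH
  hB := fun _ => rfl
  hrel := (trl el ρ hρ).rels 16 _ uss hg (by decide +kernel)
  hsub := forall_nil
  hbp := fun p hp => ⟨trivial, hb p hp⟩
include H hH hg hb
theorem hS : ∀ k < 553, (C el ρ hρ H hH hg hb).Sem (P.fact k) := (C el ρ hρ H hH hg hb).sound chk
section
attribute [local instance] actO
theorem memB : ∀ k, P.okP 553 trO k = 0 → DD.cd (P.cdK k) ∈ Bsub ρ (el 16) ⊓ stO := Ctx.okP_mem (hS el ρ hρ H hH hg hb) trsO (by decide)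
end
section
attribute [local instance] DD.actD
theorem cardB : 737280 ≤ Nat.card (Bsub ρ (el 16) ⊓ stO : Subgroup _) := have := DD.fin; levs_card DD.trsD (memB el ρ hρ H hH hg hb) levB _ lB
theorem hi : ∀ p ∈ lv, ((C el ρ hρ H hH hg hb).T p.1).index ≤ p.2 := have := DD.fin; forall_cons (Ctx.T0 rfl) (forall_cons (index_le DD.card (levs_card DD.trsD (Ctx.okE_mem rfl (hS el ρ hρ H hH hg hb) 1) lev1 737280 l1) (by decide)) (forall_cons (index_le DD.card (levs_card DD.trsD (Ctx.okE_mem rfl (hS el ρ hρ H hH hg hb) 2) lev2 589824 l2) (by decide)) (forall_cons (index_le DD.card (levs_card DD.trsD (Ctx.okE_mem rfl (hS el ρ hρ H hH hg hb) 4) lev4 18432 l4) (by decide)) (forall_cons (index_le DD.card (levs_card DD.trsD (Ctx.okE_mem rfl (hS el ρ hρ H hH hg hb) 5) lev5 51840 l5) (by decide)) (forall_nil)))))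
end
section
attribute [local instance] actO
theorem dec : ∀ γ ∈ (C el ρ hρ H hH hg hb).K, (C el ρ hρ H hH hg hb).U LM γ := have := DD.fin
  (C el ρ hρ H hH hg hb).dec (m := 1008) (a := 0) (b := 0) lv (by decide +kernel) List.mem_cons_self (lm_of lv LM (by decide +kernel))
    (fun x => tb0O.bound DN.htop x (by decide)) (stab_le DD.card lowO (cardB el ρ hρ H hH hg hb) (by decide)) (forall_cons (Ctx.cos_of rfl (hS el ρ hρ H hH hg hb) trsO 0 [nat_lit 122, nat_lit 509, nat_lit 511, nat_lit 513, nat_lit 516, nat_lit 518, nat_lit 514, nat_lit 508, nat_lit 510, nat_lit 512, nat_lit 515, nat_lit 47, nat_lit 517, nat_lit 519] 0 0 1 ct0 c0) (forall_cons (Ctx.cos_of rfl (hS el ρ hρ H hH hg hb) trsO 1 [nat_lit 40, nat_lit 42, nat_lit 38, nat_lit 46, nat_lit 44] 1 0 5 ct1 c1) (forall_cons (Ctx.cos_of rfl (hS el ρ hρ H hH hg hb) trsO 2 [nat_lit 95, nat_lit 83, nat_lit 75, nat_lit 63, nat_lit 59,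 nat_lit 62, nat_lit 90, nat_lit 78] 6 0 5 ct2 c2) (forall_cons (Ctx.cos_of rfl (hS el ρ hρ H hH hg hb) trsO 4 [nat_lit 149, nat_lit 263, nat_lit 127, nat_lit 134, nat_lit 125, nat_lit 154, nat_lit 357, nat_lit 144, nat_lit 131, nat_lit 129] 11 0 8 ct4 c4) (forall_cons (Ctx.cos_of rfl (hS el ρ hρ H hH hg hb) trsO 5 [nat_lit 160, nat_lit 180, nat_lit 170, nat_lit 503] 19 0 4 ct5 c5) (forall_nil))))))
end
theorem covers : Covers H (C el ρ hρ H hH hg hb).K 56925 := have := DD.fin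
  (C el ρ hρ H hH hg hb).cover lv (lm_of lv LM (by decide +kernel)) (dec el ρ hρ H hH hg hb) (hi el ρ hρ H hH hg hb) _ (by decide +kernel)
end
end CfH8.DF
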