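import Cfsg.Agent.OD.Pre
import Cfsg.Agent.H6.WP
import Cfsg.Agent.H6.Top
/-! A presentation of `2^(1+8):Sp₆(2)`. -/
set_option autoImplicit false
set_option maxRecDepth 100000
set_option Elab.async false
set_option linter.all false
namespace CfH8.DN
open CfH6
def il : List ℕ := [0, 1, 2, 3, 4, 5, 6, 7, 8, 9, 10, 11, 12, 13, 14, 15]
def urels : List (List ℕ) := [[0, 1, 0, 1], [0, 2, 0, 2], [0, 3, 0, 3], [0, 4, 0, 4], [0, 5, 0, 5], [0, 6, 0, 6], [0, 7, 0, 7], [0, 8, 0, 8], [0, 9, 0, 9], [0, 10, 0, 10], [0, 11, 0, 11], [0, 12, 0, 12], [0, 13, 0, 13], [0, 14, 0, 14], [0, 15, 0, 15], [1, 2, 1, 2, 0], [1, 3, 1, 3], [2, 3, 2, 3], [1, 4, 1, 4], [2, 4, 2, 4], [3, 4, 3, 4, 0], [1, 5, 1, 5], [2, 5, 2, 5], [3, 5, 3, 5], [4, 5, 4, 5], [1, 6, 1, 6], [2, 6, 2, 6], [3, 6, 3, 6], [4, 6, 4, 6],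 [5, 6, 5, 6, 0], [1, 7, 1, 7], [2, 7, 2, 7], [3, 7, 3, 7], [4, 7, 4, 7], [5, 7, 5, 7], [6, 7, 6, 7], [1, 8, 1, 8], [2, 8, 2, 8], [3, 8, 3, 8], [4, 8, 4, 8], [5, 8, 5, 8], [6, 8, 6, 8], [7, 8, 7, 8, 0], [9, 1, 9, 7, 5, 3], [9, 2, 9, 0, 6, 3], [9, 3, 9, 0, 7, 3], [9, 4, 9, 0, 6, 5, 4, 2, 1], [9, 5, 9, 0, 3, 1], [9, 6, 9, 7, 3, 2], [9, 7, 9, 7], [9, 8, 9, 8, 5, 4, 2], [10, 1, 10, 7, 5, 3, 1], [10, 2, 10, 2], [10, 3, 10, 0, 7], [10, 4, 10, 8, 5, 2], [10, 5, 10, 5], [10, 6, 10, 7, 6, 3, 2], [10, 7, 10, 0, 3], [10, 8, 10, 5, 4, 2], [11, 1, 11, 0, 8, 7, 6, 5, 1], [11, 2, 11, 0, 8, 7, 6, 5, 4, 2], [11, 3, 11, 0, 7, 6, 3, 1], [11, 4, 11, 4], [11, 5, 11, 8, 7, 5, 4, 2, 1], [11, 6, 11, 8, 7, 6, 2, 1], [11, 7, 11, 0, 7, 6, 5, 2, 1], [11, 8, 11, 0, 8, 6, 5, 4, 2, 1], [12, 1, 12, 1], [12,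 2, 12, 0, 7, 3, 2], [12, 3, 12, 3], [12, 4, 12, 0, 7, 5, 4, 1], [12, 5, 12, 5], [12, 6, 12, 6, 3], [12, 7, 12, 7], [12, 8, 12, 8, 3, 1], [13, 1, 13, 3, 1], [13, 2, 13, 2], [13, 3, 13, 3], [13, 4, 13, 0, 7, 6, 4, 2], [13, 5, 13, 0, 7, 5, 3], [13, 6, 13, 6], [13, 7, 13, 7], [13, 8, 13, 8, 6, 3], [14, 1, 14, 0, 8, 6, 1], [14, 2, 14, 2], [14, 3, 14, 6], [14, 4, 14, 0, 8, 7, 6, 5], [14, 5, 14, 8, 7, 4, 3, 2], [14, 6, 14, 3], [14, 7, 14, 0, 7, 6, 3, 2], [14, 8, 14, 8, 6, 3], [15, 1, 15, 3, 1], [15, 2, 15, 0, 7, 3, 2], [15, 3, 15, 3], [15, 4, 15, 0, 6, 5, 4, 2, 1], [15, 5, 15, 0, 7, 5, 3], [15, 6, 15, 6, 3], [15, 7, 15, 7], [15, 8, 15, 0, 8, 6, 1], [9, 10, 9, 10, 9, 10], [9, 11, 9, 11], [10, 11, 10, 11, 10, 11], [9, 12, 9, 12], [10, 12, 10, 12], [11, 12, 11, 12, 11, 12], [9, 13, 9,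 13], [10, 13, 10, 13], [11, 13, 11, 13, 11, 13], [12, 13, 12, 13], [9, 14, 9, 14], [10, 14, 10, 14], [11, 14, 11, 14], [12, 14, 12, 14, 12, 14], [13, 14, 13, 14], [9, 15, 9, 15], [10, 15, 10, 15], [11, 15, 11, 15], [12, 15, 12, 15], [13, 15, 13, 15], [14, 15, 14, 15, 14, 15]]
def cox : List ℕ := wpow [9, 10, 11, 12, 13, 14, 15] 9
def rels : List (List ℕ) := cox :: urels
abbrev G : Type := WP 16 il rels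
def el : ℕ → G := wel 16 il rels
theorem hinv : ∀ x < 16, el (il.getD x 0) = (el x)⁻¹ := wp_inv _ _ _
theorem hrel : ∀ r ∈ rels, evw el r = 1 := wp_rel _ _ _
theorem htop : gensub el 16 = ⊤ := wp_top _ _ _
theorem hhom {Γ : Type*} [Group Γ] (ev : ℕ → Γ) (h1 : ∀ x < 16, ev (il.getD x 0) = (ev x)⁻¹) (h2 : ∀ r ∈ rels, evw ev r = 1) :
    ∃ ρ : G →* Γ, ∀ x < 16, ρ (el x) = ev x := wp_hom _ _ _ (by decide +kernel) ev h1 h2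
end CfH8.DN
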