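import Cfsg.Agent.OD.Pre
import Cfsg.Agent.H8.DD
import Cfsg.Agent.H8.DQ.F0
import Cfsg.Agent.H8.DQ.P0
set_option autoImplicit false
set_option maxRecDepth 100000
set_option Elab.async false
set_option linter.all false
namespace CfH8.DQ
open CfH6 CfH6.D MulAction
def σ : List (List ℕ) := [[0],
  [1],
  [2],
  [3],
  [4],
  [5],
  [6],
  [7],
  [8],
  [9],
  [10],
  [11],
  [12],
  [13],
  [14],
  [15]]
def uss : List (List (List ℕ)) := [[[], []],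
  [[4, 9], [4, 9], [4, 9], [4, 9], [4, 9], [4, 9], [4, 9], [4, 9], [4, 9], [4, 9], [4, 9]]]
def bus : List (List ℕ × List ℕ) := [([9, 10, 11, 12, 14, 12, 11, 13], [13, 11, 12, 14, 12, 11, 10, 9]),
  ([10, 9, 11, 12, 14, 12, 11], [12, 0, 11, 12, 14, 12, 11, 9, 10]),
  ([11, 10, 9, 12, 11, 10, 13, 11, 12, 14, 15, 14, 12, 11, 10, 9, 13, 11, 10, 12, 11], [0, 5, 15, 14, 12, 11, 13, 10, 11, 12, 14, 15, 9, 10, 11, 12, 14, 13, 11, 12, 10, 11, 13, 9, 10, 11, 12, 14, 15, 11, 12, 10, 11]),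
  ([5, 0], [14, 15, 12, 14, 13, 11, 12, 10, 11, 13, 9, 10, 11, 12, 14, 15, 10, 11, 13, 9, 10, 11, 12, 14, 13, 9, 10, 9]),
  ([9, 10, 9, 13, 14, 12, 11, 10, 9, 13, 11, 10, 15, 14, 12, 11, 10, 9, 13, 11, 10, 12, 11, 13, 14, 12, 15, 14], [0, 5]),
  ([12], [0]),
  ([0], [12])]
def ex : List (List ℕ) := [[9, 10, 11, 12, 14, 12, 11, 13, 16, 13, 11, 12, 14, 12, 11, 10, 9, 16],
  [0, 11, 12, 14, 12, 11, 9, 10, 16, 10, 9, 11, 12, 14, 12, 11, 16, 12],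
  [0, 5, 15, 14, 12, 11, 13, 10, 11, 12, 14, 15, 9, 10, 11, 12, 14, 13, 11, 12, 10, 11, 13, 9, 10, 11, 12, 14, 15, 11, 12, 10, 11, 16, 11, 10, 9, 12, 11, 10, 13, 11, 12, 14, 15, 14, 12, 11, 10, 9, 13, 11, 10, 12, 11, 16],
  [0, 5, 16, 9, 10, 9, 13, 14, 12, 11, 10, 9, 13, 11, 10, 15, 14, 12, 11, 10, 9, 13, 11, 10, 12, 11, 13, 14, 12, 15, 14, 16],
  [0, 16, 12, 16]]
def gws : List (List ℕ) := uss.map (gw σ 16)
def bws : List (List ℕ) := bus.map fun u => subst σ u.1 ++ 16 :: (subst σ u.2 ++ [16])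
def gs : List (ℕ × List ℕ × List (List ℕ)) := [(273, [], [[2], [0], [2], [0, 13, 11, 12, 14, 15, 13, 11, 12, 14, 12, 11, 13, 11, 12, 11]]),
  (274, [], [[2], [2, 4], [2], [0, 7, 4, 3, 2, 1, 13, 11, 12, 10, 11, 13, 9, 10, 11, 12, 14, 12, 11, 13, 10, 11, 12, 9, 10, 11, 13, 9]]),
  (275, [], [[2], [9], [2], [14, 12, 10, 11, 13, 9, 10, 11, 12, 14, 15, 14, 12, 11, 13, 10, 11, 12, 14, 9, 10]]),
  (276, [], [[2], [10, 11, 10, 12, 11, 10, 14, 12, 11, 10, 15, 14, 12, 11, 10, 5, 7], [2], [7, 5, 15, 14, 12, 11, 13, 10, 11, 12, 14, 15]]),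
  (277, [], [[2], [13, 15], [2], [15, 13, 12]]),
  (278, [], [[2], [3], [2], [3, 15, 14, 12, 11, 13, 9, 10, 11, 12, 14, 15, 14, 12, 11, 13, 10, 11, 12, 14, 13, 12, 10, 9]])]
def gls : List (List ℕ) := gs.map fun g => subst σ g.2.1 ++ gw σ 16 g.2.2
theorem chk : Rng P.chk 0 279 := p0
section
variable {G : Type*} [Group G] (el : ℕ → G) (ρ : DN.G →* G) (hρ : ∀ x < 16, ρ (DN.el x) = byW el σ x)
include hρ
theorem trl : Trl ρ DD.cd DD.eq 16 el σ := ⟨DD.heq, fun x hx => by rw [DD.cdx x hx, hρ x hx]⟩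
theorem hbp (ht : el 16 = (el 16)⁻¹) (h : ∀ w ∈ bws, evw el w = 1) : ∀ p ∈ P.bp, ρ (DD.cd p.1) * el 16 = el 16 * ρ (DD.cd p.2) :=
  (trl el ρ hρ).bp _ _ ht _ bus h (by decide +kernel)
variable (H : Subgroup G) (hg : ∀ w ∈ gws, evw el w = 1)
  (hb : ∀ p ∈ P.bp, ρ (DD.cd p.1) * el 16 = el 16 * ρ (DD.cd p.2))
noncomputable def C : Ctx P DN.G G where
  ρ := ρ
  t := el 16
  H := H
  Bs := ⊤
  cd := DD.cd
  cd0 := DD.cd0
  heq := DD.heq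
  hH := fun h => absurd h (by decide)
  hB := fun _ => rfl
  hrel := (trl el ρ hρ).rels 16 _ uss hg (by decide +kernel)
  hsub := forall_nil
  hbp := fun p hp => ⟨trivial, hb p hp⟩
include H hg hb
theorem hS : ∀ k < 279, (C el ρ hρ H hg hb).Sem (P.fact k) := (C el ρ hρ H hg hb).sound chk
theorem goals : ∀ w ∈ gls, evw el w = 1 := Ctx.goals_of (hS el ρ hρ H hg hb) rfl (trl el ρ hρ) rfl gs (by decide +kernel)
end
end CfH8.DQ
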