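import Cfsg.Agent.H8.FiB
import Cfsg.Agent.H8.F23L

/-! Rigidity of a tuple of transpositions in `Fi23`. -/

set_option autoImplicit false
set_option maxRecDepth 100000
set_option Elab.async false

namespace CfH8.Fi.F23
open CfH6 CfH9 MulAction Subgroup
attribute [local instance] F23A.act

def SRC : List NP := [(0, [7, 6, 5, 4, 3, 8, 2, 3, 4, 1, 2, 3, 8, 5, 6, 4, 5, 3, 4, 2, 3, 8, 7, 6, 5, 4, 3, 2], 1),
  (179, [], 0),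
  (368, [], 2),
  (367, [], 3),
  (369, [], 4),
  (379, [], 5),
  (116, [], 8),
  (91, [5, 4, 3, 8, 2, 3, 4, 1, 2, 3, 8, 5, 4, 3, 2, 1], 0),
  (286, [1, 2, 3, 8, 4, 3, 2, 1], 0),
  (242, [], 9)]
def PAT : ℕ := 0x8fddf77df79bfd7eaff7fffff
def Rels : List (List ℕ) := [[1, 7, 8, 2, 3, 4, 6, 2, 3, 4, 6, 2, 3, 4, 6]]
def FIN : List (List ℕ) := [[179, 0, 30038, 379, 369, 367, 91, 116, 28661, 242], [179, 0, 30038, 379, 369, 367, 91, 28661, 116, 242]]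
def tree : BT := (.node [[5], [6], [5, 4, 5], [8, 3, 2, 3, 8], [9, 8, 3, 8, 9], [1, 2, 3, 8, 4, 3, 2, 1, 0, 1, 2, 3, 4, 8, 3, 2, 1]] 694
 (.cons (30038, [], 6) (.node [[4], [8, 3, 8], [3, 2, 3], [4, 3, 4], [9, 8, 3, 8, 9], [1, 2, 3, 8, 4, 3, 2, 1, 0, 1, 2, 3, 4, 8, 3, 2, 1], [9, 5, 4, 3, 8, 6, 5, 4, 3, 2, 3, 4, 5, 6, 8, 3, 4, 5, 9]] 513
  (.cons (379, [], 5) (.node [[3], [2], [8], [9, 8, 9], [4, 5, 3, 4, 1, 2, 3, 8, 6, 5, 4, 3, 2, 1, 0, 1, 2, 3, 4, 5, 6, 8, 3, 2, 1, 4, 3, 5, 4]] 136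
   (.cons (369, [], 4) (.node [[8], [9, 8, 9], [3, 4, 2, 3, 8, 9, 5, 4, 3, 8, 6, 5, 4, 3, 2, 3, 4, 5, 6, 8, 3, 4, 5, 9, 8, 3, 2, 4, 3], [3, 8, 4, 5, 3, 4, 1, 2, 3, 8, 6, 5, 4, 3, 2, 1, 0, 1, 2, 3, 4, 5, 6, 8, 3, 2, 1, 4, 3, 5, 4, 8, 3]] 33
    (.cons (367, [], 3) (.node [[9], [8, 3, 4, 2, 3, 8, 9, 5, 4, 3, 8, 6, 5, 4, 3, 2, 3, 4, 5, 6, 8, 3, 4, 5, 9, 8, 3, 2, 4, 3, 8]] 10
     (.cons (91, [5, 4, 3, 8, 2, 3, 4, 1, 2, 3, 8, 5, 4, 3, 2, 1], 0) (.node [] 5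
      (.cons (116, [], 8) (.node [] 4
       (.cons (28661, [3, 4, 5, 2, 3, 4, 1, 2, 3, 8, 6, 5, 4, 3, 2, 1], 0) (.node [[1, 2, 3, 8, 4, 5, 3, 4, 2, 3, 8, 6, 5, 4, 3, 2, 1, 2, 3, 4, 5, 6, 8, 3, 2, 4, 3, 5, 4, 8, 3, 2, 1]] 3
        (.cons (242, [], 9) .ok
        .nil))
       (.cons (368, [], 2) (.no 0 1)
       (.cons (28556, [3, 8, 4, 5, 3, 4, 1, 2, 3, 8, 6, 5, 4, 3, 2, 1], 0) (.no 0 1)
       .nil))))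
      (.cons (28661, [3, 4, 5, 2, 3, 4, 1, 2, 3, 8, 6, 5, 4, 3, 2, 1], 0) (.node [] 4
       (.cons (116, [], 8) (.node [[1, 2, 3, 8, 4, 5, 3, 4, 2, 3, 8, 6, 5, 4, 3, 2, 1, 2, 3, 4, 5, 6, 8, 3, 2, 4, 3, 5, 4, 8, 3, 2, 1]] 3
        (.cons (242, [], 9) .ok
        .nil))
       (.cons (368, [], 2) (.no 0 2)
       (.cons (28556, [3, 8, 4, 5, 3, 4, 1, 2, 3, 8, 6, 5, 4, 3, 2, 1], 0) (.no 0 1)
       .nil))))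
      (.cons (368, [], 2) (.node [] 4
       (.cons (116, [], 8) (.no 0 1)
       (.cons (28556, [3, 8, 4, 5, 3, 4, 1, 2, 3, 8, 6, 5, 4, 3, 2, 1], 0) (.no 0 1)
       (.cons (28661, [3, 4, 5, 2, 3, 4, 1, 2, 3, 8, 6, 5, 4, 3, 2, 1], 0) (.no 0 2)
       .nil))))
      (.cons (28556, [3, 8, 4, 5, 3, 4, 1, 2, 3, 8, 6, 5, 4, 3, 2, 1], 0) (.node [] 4
       (.cons (368, [], 2) (.no 0 1)
       (.cons (116, [], 8) (.no 0 1)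
       (.cons (28661, [3, 4, 5, 2, 3, 4, 1, 2, 3, 8, 6, 5, 4, 3, 2, 1], 0) (.no 0 1)
       .nil))))
      .nil)))))
     (.cons (298, [8, 9, 3, 8, 4, 3], 2) (.node [] 5
      (.cons (368, [], 2) (.node [] 4
       (.cons (28549, [3, 4, 2, 3, 8, 9, 5, 4, 3, 8, 6, 5, 4, 3], 2) (.no 0 2)
       (.cons (28810, [8, 9, 3, 4, 5, 2, 3, 4, 1, 2, 3, 8, 6, 5, 4, 3, 2, 1], 0) (.no 0 1)
       (.cons (28589, [8, 9, 3, 8, 4, 5, 3, 4, 1, 2, 3, 8, 6, 5, 4, 3, 2, 1], 0) (.no 0 1)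
       .nil))))
      (.cons (28549, [3, 4, 2, 3, 8, 9, 5, 4, 3, 8, 6, 5, 4, 3], 2) (.node [] 4
       (.cons (368, [], 2) (.no 0 2)
       (.cons (28810, [8, 9, 3, 4, 5, 2, 3, 4, 1, 2, 3, 8, 6, 5, 4, 3, 2, 1], 0) (.no 0 1)
       (.cons (28589, [8, 9, 3, 8, 4, 5, 3, 4, 1, 2, 3, 8, 6, 5, 4, 3, 2, 1], 0) (.no 0 1)
       .nil))))
      (.cons (28810, [8, 9, 3, 4, 5, 2, 3, 4, 1, 2, 3, 8, 6, 5, 4, 3, 2, 1], 0) (.node [] 4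
       (.cons (368, [], 2) (.no 0 1)
       (.cons (28549, [3, 4, 2, 3, 8, 9, 5, 4, 3, 8, 6, 5, 4, 3], 2) (.no 0 1)
       (.cons (28589, [8, 9, 3, 8, 4, 5, 3, 4, 1, 2, 3, 8, 6, 5, 4, 3, 2, 1], 0) (.no 0 1)
       .nil))))
      (.cons (28589, [8, 9, 3, 8, 4, 5, 3, 4, 1, 2, 3, 8, 6, 5, 4, 3, 2, 1], 0) (.node [] 4
       (.cons (368, [], 2) (.no 0 1)
       (.cons (28549, [3, 4, 2, 3, 8, 9, 5, 4, 3, 8, 6, 5, 4, 3], 2) (.no 0 1)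
       (.cons (28810, [8, 9, 3, 4, 5, 2, 3, 4, 1, 2, 3, 8, 6, 5, 4, 3, 2, 1], 0) (.no 0 1)
       .nil))))
      .nil)))))
     (.cons (286, [1, 2, 3, 8, 4, 3, 2, 1], 0) (.node [] 5
      (.cons (368, [], 2) (.node [] 4
       (.cons (116, [], 8) (.no 0 1)
       (.cons (28556, [3, 8, 4, 5, 3, 4, 1, 2, 3, 8, 6, 5, 4, 3, 2, 1], 0) (.no 0 2)
       (.cons (28661, [3, 4, 5, 2, 3, 4, 1, 2, 3, 8, 6, 5, 4, 3, 2, 1], 0) (.no 0 1)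
       .nil))))
      (.cons (116, [], 8) (.node [] 4
       (.cons (368, [], 2) (.no 0 1)
       (.cons (28556, [3, 8, 4, 5, 3, 4, 1, 2, 3, 8, 6, 5, 4, 3, 2, 1], 0) (.no 0 2)
       (.cons (28661, [3, 4, 5, 2, 3, 4, 1, 2, 3, 8, 6, 5, 4, 3, 2, 1], 0) (.no 0 1)
       .nil))))
      (.cons (28661, [3, 4, 5, 2, 3, 4, 1, 2, 3, 8, 6, 5, 4, 3, 2, 1], 0) (.node [] 4
       (.cons (368, [], 2) (.no 0 1)
       (.cons (116, [], 8) (.no 0 1)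
       (.cons (28556, [3, 8, 4, 5, 3, 4, 1, 2, 3, 8, 6, 5, 4, 3, 2, 1], 0) (.no 0 1)
       .nil))))
      (.cons (28556, [3, 8, 4, 5, 3, 4, 1, 2, 3, 8, 6, 5, 4, 3, 2, 1], 0) (.node [] 4
       (.cons (368, [], 2) (.no 0 2)
       (.cons (116, [], 8) (.no 0 2)
       (.cons (28661, [3, 4, 5, 2, 3, 4, 1, 2, 3, 8, 6, 5, 4, 3, 2, 1], 0) (.no 0 1)
       .nil))))
      .nil)))))
     .nil))))
    .nil))
   .nil))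
  .nil))
 .nil))
theorem cPQ : chkPQ nets 32768 10 bs gp 10 PAT Rels SRC = true := by decide +kernel
theorem cBT : (okT nets 32768 10 gp (xn SRC 1) && okT nets 32768 10 gp (xn SRC 0) && !tree.lst &&
    chkBT nets 32768 15 10 U gp 10 PAT Rels FIN tree [xn SRC 1, xn SRC 0]) = true := by decide +kernel
def tJ1 : NP := (28723, [2, 3, 4, 1, 2, 3, 8, 6, 5, 4, 3, 2, 1], 0)
def tJ2 : NP := (107, [8, 5, 4], 3)
theorem cJ1 : subM (cand nets 32768 15 U [xn SRC 0, xn SRC 9, xn SRC 7, xn SRC 5, tJ1] [xn SRC 1] [])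
    (mskL [192, 378]) = true := by decide +kernel
theorem cJ2 : subM (cand nets 32768 15 U [xn SRC 0, xn SRC 9, xn SRC 7, xn SRC 5, tJ2] [xn SRC 1] [])
    (mskL [192, 378]) = true := by decide +kernel

end CfH8.Fi.F23
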