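import Cfsg.Agent.H8.Coprime2
import Cfsg.Agent.H9.Alperin
import Cfsg.Agent.H4.ZStar

/-! Recognition of Fischer groups, last step: a subgroup containing the centraliser of a
transposition, with the involution pattern of a Fischer group, is the whole group. -/

set_option autoImplicit false

namespace CfH8.Fi

open Subgroup Cfsg CfH9

universe u

section
variable {G : Type*} [Group G]

theorem inv_of_sq {x : G} (h : x * x = 1) : x⁻¹ = x := inv_eq_of_mul_eq_one_right h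

theorem conj_pow_refl {x y : G} (hx : x * x = 1) (hy : y * y = 1) (k : ℕ) :
    (x * y) ^ k * x = x * ((x * y) ^ k)⁻¹ := by
  have h : (x * y) * x = x * (x * y)⁻¹ := by rw [mul_inv_rev, inv_of_sq hx, inv_of_sq hy, mul_assoc]
  have h2 : SemiconjBy x (x * y)⁻¹ (x * y) := h.symm
  have := h2.pow_right k
  rw [inv_pow] at this
  exact this.symm

/-- two non-conjugate involutions of a finite group -/
theorem dihedral_pair [Finite G] {x y : G} (hx : x * x = 1) (hy : y * y = 1) (h : ¬ IsConj x y) :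
    ∃ w : G, w ≠ 1 ∧ w * w = 1 ∧ w * x = x * w ∧ w * y = y * w ∧
      ((IsConj x (w * x) ∧ IsConj y (w * y)) ∨ (IsConj x (w * y) ∧ IsConj y (w * x))) := by
  set r := x * y with hr
  have hk : ∀ k : ℕ, IsConj x (r ^ (2 * k) * x) := fun k => by
    refine isConj_iff.2 ⟨r ^ k, ?_⟩
    rw [two_mul, pow_add, mul_assoc, mul_assoc, conj_pow_refl hx hy]
  have hyr : y = r⁻¹ * x := by rw [hr, mul_inv_rev, inv_of_sq hx, inv_of_sq hy, mul_assoc, hx, mul_one]
  have hk' : ∀ k : ℕ, IsConj y (r ^ (2 * k) * y) := fun k => by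
    refine isConj_iff.2 ⟨r ^ k, ?_⟩
    rw [hyr, two_mul, pow_add, mul_assoc, mul_assoc, ← conj_pow_refl hx hy, ← hr]
    group
  have hn := pow_orderOf_eq_one r
  have hpos := orderOf_pos r
  rcases Nat.even_or_odd' (orderOf r) with ⟨m, hm | hm⟩
  · have hw : r ^ m * r ^ m = 1 := by rw [← pow_add, ← two_mul, ← hm, hn]
    have hwx : r ^ m * x = x * r ^ m := by rw [conj_pow_refl hx hy, inv_of_sq hw]
    refine ⟨r ^ m, ?_, hw, hwx, ?_, ?_⟩
    · exact pow_ne_one_of_lt_orderOf (by omega) (by omega)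
    · rw [hyr, ← mul_assoc, mul_assoc r⁻¹, ← hwx, ← mul_assoc]
      congr 1
      exact ((Commute.refl r).pow_left m).inv_right
    · rcases Nat.even_or_odd' m with ⟨k, rfl | rfl⟩
      · exact Or.inl ⟨hk k, hk' k⟩
      · right
        have e1 : r ^ (2 * k + 1) * y = r ^ (2 * k) * x := by rw [hyr, pow_succ]; group
        have e2 : r ^ (2 * k + 1) * x = r ^ (2 * (k + 1)) * y := by rw [hyr]; group
        rw [e1, e2]; exact ⟨hk k, hk' _⟩
  · exfalso
    apply h
    have : y = r ^ (2 * m) * x := by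
      rw [hyr]; congr 1
      rw [hm, pow_succ] at hn
      exact (eq_inv_of_mul_eq_one_left hn).symm
    rw [this]; exact hk m

theorem odd_rel [Finite G] {N W : Subgroup G} (hN : (Nat.card N).Coprime 2) (x : Fin 7 → G)
    (h2 : ∀ i, x i * x i = 1) (hc : ∀ i j, x i * x j = x j * x i) (hn : ∀ i, x i ∈ Nm(N))
    (hp : x 0 * x 1 * (x 2 * x 3) * (x 4 * x 5) * x 6 = 1) (hW : ∀ i, N ⊓ Cx(x i) ≤ W) : N ≤ W := by
  set A := closure (Set.range x) with hA
  have hxA : ∀ i, x i ∈ A := fun i => subset_closure ⟨i, rfl⟩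
  have hcA : ∀ a ∈ A, ∀ b ∈ A, a * b = b * a := by
    have h1 : ∀ i, A ≤ Cx(x i) := fun i => (closure_le _).2 (by rintro _ ⟨j, rfl⟩; exact mem_Cx.2 (hc j i))
    intro a ha
    have : A ≤ Cx(a) := (closure_le _).2 (by
      rintro _ ⟨j, rfl⟩; exact mem_Cx.2 (mem_Cx.1 (h1 j ha)).symm)
    exact fun b hb => (mem_Cx.1 (this hb)).symm
  have h2A : ∀ a ∈ A, a * a = 1 := by
    intro a ha
    induction ha using closure_induction with
    | mem y hy => obtain ⟨i, rfl⟩ := hy; exact h2 i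
    | one => simp
    | mul a b ha hb iha ihb =>
      rw [mul_assoc, ← mul_assoc b, hcA b hb a ha, mul_assoc, ihb, mul_one, iha]
    | inv a ha ih => rw [← mul_inv_rev, ih, inv_one]
  have hp2 : IsPGroup 2 A := isPGroup_iff_mem.2 fun a ha => ⟨1, by rw [pow_one, pow_two, h2A a ha]⟩
  have := Fact.mk Nat.prime_two
  refine CfH8.le_of_cocyclic (A := A) (comm_iff.2 hcA)
    ((closure_le _).2 (by rintro _ ⟨j, rfl⟩; exact hn j))
    (CfH8.coprime_card_of_isPGroup' hp2 hN).symm fun B hB ⟨a, ha, hle⟩ => ?_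
  have h3 : ∀ y ∈ A, y ∉ B → y * a ∈ B := by
    intro y hy hyB
    have hBN : B ≤ Nm(zpowers a) := by
      refine le_trans ?_ (Cz_le_Nm _)
      rw [Cz_zpowers]
      exact fun b hb => mem_Cx.2 (hcA b (hB hb) a ha)
    obtain ⟨b, hb, c, ⟨k, rfl⟩, rfl⟩ := (mem_sup_of_le_Nm hBN).1 (hle hy)
    rcases Int.even_or_odd' k with ⟨j, rfl | rfl⟩
    · exfalso; apply hyB
      simp only [zpow_mul]
      rw [show a ^ (2 : ℤ) = 1 by rw [zpow_two, h2A a ha], one_zpow, mul_one]; exact hb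
    · simp only [zpow_add, zpow_mul]
      rw [show a ^ (2 : ℤ) = 1 by rw [zpow_two, h2A a ha], one_zpow, one_mul, zpow_one, mul_assoc,
        h2A a ha, mul_one]; exact hb
  by_cases hex : ∃ i, x i ∈ B
  · obtain ⟨i, hi⟩ := hex
    exact (inf_le_inf_left _ (Cz_le_Cx hi)).trans (hW i)
  · exfalso
    push Not at hex
    have h4 : ∀ i j, x i * x j ∈ B := fun i j => by
      have := B.mul_mem (h3 _ (hxA i) (hex i)) (h3 _ (hxA j) (hex j))
      rwa [mul_assoc, ← mul_assoc a, hcA a ha _ (hxA j), mul_assoc, h2A a ha, mul_one] at this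
    apply hex 6
    have := B.inv_mem (B.mul_mem (B.mul_mem (h4 0 1) (h4 2 3)) (h4 4 5))
    rwa [← eq_inv_of_mul_eq_one_right hp] at this

/-- conjugacy inside a subgroup -/
def C0 (G0 : Subgroup G) (a b : G) : Prop := ∃ g ∈ G0, g * a * g⁻¹ = b

theorem C0.isConj {G0 : Subgroup G} {a b : G} (h : C0 G0 a b) : IsConj a b :=
  let ⟨g, _, e⟩ := h; isConj_iff.2 ⟨g, e⟩

theorem C0.mem {G0 : Subgroup G} {a b : G} (h : C0 G0 a b) (ha : a ∈ G0) : b ∈ G0 :=
  let ⟨_, hg, e⟩ := h; e ▸ G0.mul_mem (G0.mul_mem hg ha) (G0.inv_mem hg)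

/-- every conjugate of `y` inside `G0` comes from an element of `G0` -/
def Rig (G0 : Subgroup G) (y : G) : Prop := ∀ g, g * y * g⁻¹ ∈ G0 → g ∈ G0

theorem Rig.c0 {G0 : Subgroup G} {a b : G} (h : Rig G0 a) (hc : C0 G0 a b) : Rig G0 b := by
  obtain ⟨k, hk, rfl⟩ := hc
  intro g hg
  have := h (g * k) (by simpa [mul_assoc] using hg)
  exact (G0.mul_mem_cancel_right hk).1 this

theorem rig_of {G0 : Subgroup G} {y : G} (hC : Cx(y) ≤ G0)
    (h : ∀ g, g * y * g⁻¹ ∈ G0 → C0 G0 y (g * y * g⁻¹)) : Rig G0 y := by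
  intro g hg
  obtain ⟨k, hk, e⟩ := h g hg
  have : k⁻¹ * g ∈ Cx(y) := mem_Cx'.2 (by
    rw [mul_inv_rev, inv_inv, mul_assoc, mul_assoc, ← mul_assoc y, ← mul_assoc g, ← mul_assoc g, ← e]
    group)
  exact (G0.mul_mem_cancel_left (G0.inv_mem hk)).1 (hC this)

/-- equality modulo a central involution -/
theorem eq_mod {K : Type*} [Group K] {t : K} (ht : t * t = 1) [(zpowers t).Normal] {a b : K}
    (h : (a : K ⧸ zpowers t) = b) : b = a ∨ b = a * t := by
  obtain ⟨k, hk⟩ := QuotientGroup.eq.1 h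
  have e : b = a * t ^ k := by simp only at hk; rw [hk]; group
  have h2 : t ^ (2 : ℤ) = 1 := by rw [zpow_two, ht]
  rcases Int.even_or_odd' k with ⟨j, rfl | rfl⟩
  · left; rw [e, zpow_mul, h2, one_zpow, mul_one]
  · right; rw [e, zpow_add, zpow_mul, h2, one_zpow, one_mul, zpow_one]

theorem normal_zp (t : G) : (zpowers (⟨t, mem_Cx.2 rfl⟩ : Cx(t))).Normal :=
  ⟨fun n ⟨k, hk⟩ g => ⟨k, by
    have : Commute g (⟨t, mem_Cx.2 rfl⟩ : Cx(t)) := Subtype.ext (mem_Cx.1 g.2)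
    simp only at hk ⊢
    rw [← hk, (this.zpow_right k).eq, mul_inv_cancel_right]⟩⟩

end

/-- the involution pattern used in the last step -/
structure Pat {G : Type*} [Group G] (G0 : Subgroup G) (z u v u' : G) (x : Fin 7 → G) : Prop where
  hC : Cx(z) ≤ G0
  z2 : z * z = 1
  cls : ∀ y ∈ G0, y * y = 1 → y ≠ 1 → C0 G0 z y ∨ C0 G0 u y ∨ C0 G0 v y
  nzu : ¬ IsConj z u
  nzv : ¬ IsConj z v
  nuv : ¬ IsConj u v
  tr3 : ∀ d e, C0 G0 z d → C0 G0 z e → d * e = e * d ∨ d * e * d = e * d * e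
  x0 : x 0 = z
  hu : u = z * x 1
  x1 : x 1 ≠ z
  xD : ∀ i, C0 G0 z (x i)
  xc : ∀ i j, x i * x j = x j * x i
  xp : x 0 * x 1 * (x 2 * x 3) * (x 4 * x 5) * x 6 = 1
  f3 : ∀ d, C0 G0 z d → d * z = z * d → d * x 1 = x 1 * d → d ≠ z → d ≠ x 1 → C0 G0 v (d * u)
  f2 : ∀ d, C0 G0 z d → d * z = z * d → d ≠ z → C0 G0 u (d * z)
  vm : v ∈ G0
  v2 : v * v = 1
  uu : C0 G0 u u'
  uv : u' * v = v * u'
  uvv : C0 G0 v (u' * v)
  f6 : ∀ d, C0 G0 z d → d * v = v * d → d * u' = u' * d → C0 G0 v (d * v) ∨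
    (C0 G0 z (d * u') ∨ C0 G0 u (d * u')) ∨ (C0 G0 z (d * u' * v) ∨ C0 G0 u (d * u' * v))

namespace Pat
variable {G : Type u} [Group G] [Finite G] {G0 : Subgroup G} {z u v u' : G} {x : Fin 7 → G}
  (h : Pat G0 z u v u' x)
include h

theorem zm : z ∈ G0 := h.hC (mem_Cx.2 rfl)

theorem x2 (i : Fin 7) : x i * x i = 1 := by
  obtain ⟨g, _, e⟩ := h.xD i
  rw [← e, conj_mul, h.z2, mul_one, mul_inv_cancel]

theorem zx : z * x 1 = x 1 * z := by have := h.xc 0 1; rwa [h.x0] at this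

theorem u2 : u * u = 1 := by
  rw [h.hu, mul_assoc, ← mul_assoc (x 1), ← h.zx, mul_assoc, h.x2, mul_one, h.z2]

theorem u1 : u ≠ 1 := fun e => h.x1 (by
  rw [h.hu] at e
  rw [eq_inv_of_mul_eq_one_right e, inv_of_sq h.z2])

theorem um : u ∈ G0 := h.hu ▸ G0.mul_mem h.zm ((h.xD 1).mem h.zm)

theorem z1 : z ≠ 1 := fun e => h.x1 (by
  obtain ⟨g, _, e'⟩ := h.xD 1
  rw [← e', e]; simp)

theorem c0z {y : G} (hy : y ∈ G0) (hc : IsConj z y) : C0 G0 z y := by
  obtain ⟨g, rfl⟩ := isConj_iff.1 hc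
  rcases h.cls _ hy (by rw [conj_mul, h.z2, mul_one, mul_inv_cancel])
    (fun e => h.z1 (by simpa using e)) with e | e | e
  · exact e
  · exact absurd (hc.trans e.isConj.symm) h.nzu
  · exact absurd (hc.trans e.isConj.symm) h.nzv

theorem rigz : Rig G0 z := rig_of h.hC fun g hg => h.c0z hg (isConj_iff.2 ⟨g, rfl⟩)

theorem cu : Cx(u) ≤ G0 := by
  have hx : ∀ i, x i ∈ Cx(u) := fun i => mem_Cx.2 (by
    rw [h.hu, ← h.x0, ← mul_assoc, h.xc i 0, mul_assoc, h.xc i 1, mul_assoc])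
  have hz : z ∈ Cx(u) := h.x0 ▸ hx 0
  let t : Cx(u) := ⟨u, mem_Cx.2 rfl⟩
  have ht : t * t = 1 := Subtype.ext h.u2
  have := normal_zp u
  let π := QuotientGroup.mk' (zpowers t)
  let W := (G0.subgroupOf Cx(u)).map π
  have hW : ∀ k : Cx(u), π k ∈ W → (k : G) ∈ G0 := by
    rintro k ⟨k', hk', e⟩
    rcases eq_mod ht e with e | e
    · rw [e]; exact hk'
    · rw [e]; exact G0.mul_mem hk' h.um
  have hcen : ∀ i, Cx(π ⟨x i, hx i⟩) ≤ W := by
    intro i q hq
    obtain ⟨k, rfl⟩ := QuotientGroup.mk'_surjective _ q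
    refine ⟨k, (h.rigz.c0 (h.xD i)) k ?_, rfl⟩
    have hq' := mem_Cx'.1 hq
    rw [← map_inv, ← map_mul, ← map_mul] at hq'
    have hm := (h.xD i).mem h.zm
    rcases eq_mod ht hq'.symm with e | e
    · have : (k : G) * x i * (k : G)⁻¹ = x i := congrArg Subtype.val e
      exact this.symm ▸ hm
    · have : (k : G) * x i * (k : G)⁻¹ = x i * u := congrArg Subtype.val e
      exact this.symm ▸ G0.mul_mem hm h.um
  have hO : pPrimeCore 2 (Cx(u) ⧸ zpowers t) ≤ W := by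
    refine odd_rel (CfH7.coprime_card_pPrimeCore 2 _) (fun i => π ⟨x i, hx i⟩) (fun i => ?_)
      (fun i j => ?_) (fun i => mem_Nm_of_normal _ _) ?_ fun i => inf_le_right.trans (hcen i)
    · rw [← map_mul, show (⟨x i, hx i⟩ * ⟨x i, hx i⟩ : Cx(u)) = 1 from Subtype.ext (h.x2 i), map_one]
    · rw [← map_mul, ← map_mul]; congr 1; exact Subtype.ext (h.xc i j)
    · simp only [← map_mul]
      rw [← map_one π]; congr 1; exact Subtype.ext h.xp
  have hz1 : π ⟨z, hz⟩ ≠ 1 := by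
    intro e
    rw [← map_one π] at e
    rcases eq_mod ht e with e | e
    · exact h.z1 (congrArg Subtype.val e).symm
    · have := congrArg Subtype.val e
      change 1 = z * u at this
      rw [h.hu, ← mul_assoc, h.z2, one_mul] at this
      obtain ⟨g, _, e'⟩ := h.xD 1
      rw [← e'] at this
      exact h.z1 (by simpa using this.symm)
  have hZ := CfH4.zstar _ (π ⟨z, hz⟩) (orderOf_eq_prime (by
    rw [pow_two, ← map_mul, show (⟨z, hz⟩ * ⟨z, hz⟩ : Cx(u)) = 1 from Subtype.ext h.z2, map_one]) hz1)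
    (by
      intro q hq
      obtain ⟨k, rfl⟩ := QuotientGroup.mk'_surjective _ q
      rw [← map_inv, ← map_mul, ← map_mul] at hq ⊢
      set e := k * ⟨z, hz⟩ * k⁻¹ with he
      have he' : (e : G) = k * z * (k : G)⁻¹ := rfl
      have e2 : (e : G) * e = 1 := by rw [he', conj_mul, h.z2, mul_one, mul_inv_cancel]
      have hq' : π ⟨z, hz⟩ = π (e * ⟨z, hz⟩ * e⁻¹) := by
        rw [map_mul, map_mul, map_inv, ← hq.eq, mul_inv_cancel_right]
      have h1 : (e : G) * z * (e : G)⁻¹ = z ∨ (e : G) * z * (e : G)⁻¹ = x 1 := by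
        rcases eq_mod ht hq' with e1 | e1
        · exact Or.inl (congrArg Subtype.val e1)
        · right
          have : (e : G) * z * (e : G)⁻¹ = z * u := congrArg Subtype.val e1
          exact this.trans (by rw [h.hu, ← mul_assoc z z, h.z2, one_mul])
      have hm : (e : G) ∈ G0 := h.rigz _ (by
        rcases h1 with e1 | e1 <;> rw [e1]
        exacts [h.zm, (h.xD 1).mem h.zm])
      have hD := h.c0z hm (isConj_iff.2 ⟨k, rfl⟩)
      have hc : (e : G) * z = z * e := by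
        rcases h1 with e1 | e1
        · exact mul_inv_eq_iff_eq_mul.1 e1
        rcases h.tr3 _ z hD ⟨1, G0.one_mem, by simp⟩ with e3 | e3
        · exact e3
        · rw [inv_of_sq e2, e3] at e1
          have : (e : G) = x 1 := by
            rw [← mul_left_cancel_iff (a := z), ← mul_right_cancel_iff (a := z), e1, h.zx, mul_assoc,
              h.z2, mul_one]
          rw [this, h.zx]
      have heu := mem_Cx.1 e.2
      by_cases c1 : (e : G) = z
      · congr 1; exact Subtype.ext c1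
      by_cases c2 : (e : G) = x 1
      · refine QuotientGroup.eq.2 ⟨1, Subtype.ext ?_⟩
        change u ^ (1 : ℤ) = (e : G)⁻¹ * z
        rw [zpow_one, c2, inv_of_sq (h.x2 1), h.hu, h.zx]
      exfalso
      have hc1 : (e : G) * x 1 = x 1 * e := by
        have : x 1 = z * u := by rw [h.hu, ← mul_assoc, h.z2, one_mul]
        rw [this, ← mul_assoc, hc, mul_assoc, heu, mul_assoc]
      apply h.nzv
      refine ((h.xD 1).isConj.trans (isConj_iff.2 ⟨k, ?_⟩)).trans (h.f3 _ hD hc hc1 c1 c2).isConj.symm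
      have : x 1 = z * u := by rw [h.hu, ← mul_assoc, h.z2, one_mul]
      rw [this, ← conj_mul, mem_Cx'.1 k.2, he'])
  intro k hk
  have h1 := hO (hZ (π ⟨k, hk⟩))
  rw [← map_inv, ← map_inv, ← map_mul, ← map_mul, ← map_mul] at h1
  have h2 := hW _ h1
  change k * z * k⁻¹ * z⁻¹ ∈ G0 at h2
  exact h.rigz k ((G0.mul_mem_cancel_right (G0.inv_mem h.zm)).1 h2)

theorem rigu : Rig G0 u := by
  refine rig_of h.cu fun g hg => ?_
  have hc : IsConj u (g * u * g⁻¹) := isConj_iff.2 ⟨g, rfl⟩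
  rcases h.cls _ hg (by rw [conj_mul, h.u2, mul_one, mul_inv_cancel])
    (fun e => h.u1 (by simpa using e)) with e | e | e
  · exact absurd (e.isConj.trans hc.symm) h.nzu
  · exact e
  · exact absurd (hc.trans e.isConj.symm) h.nuv

/-- an element of `G0` commuting with a conjugate of `z` outside `G0` is not rigid -/
theorem nrig {g w : G} (hg : g ∉ G0) (hc : w * (g * z * g⁻¹) = g * z * g⁻¹ * w) : ¬ Rig G0 w := by
  intro hr
  apply hg
  rw [← G0.inv_mem_iff]
  refine hr _ (h.hC (mem_Cx.2 ?_))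
  rw [inv_inv]
  have := congrArg (fun y => g⁻¹ * y * g) hc
  simpa [mul_assoc] using this

theorem prod_out {g e' : G} (hg : g ∉ G0) (hc : IsConj z e')
    (hcm : e' * (g * z * g⁻¹) = g * z * g⁻¹ * e') (hne : e' ≠ g * z * g⁻¹) :
    e' * (g * z * g⁻¹) ∉ G0 := by
  intro hm
  have h1 : g⁻¹ * e' * g * z = z * (g⁻¹ * e' * g) := by
    have := congrArg (fun y => g⁻¹ * y * g) hcm
    simpa [mul_assoc] using this
  have h2 := h.f2 _ (h.c0z (h.hC (mem_Cx.2 h1)) (hc.trans (isConj_iff.2 ⟨g⁻¹, by rw [inv_inv]⟩))) h1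
    (fun e => hne (by rw [← e]; group))
  refine hg (h.rigu.c0 h2 g ?_)
  convert hm using 1
  group

theorem step {g : G} (hg : g ∉ G0) (hc : v * (g * z * g⁻¹) = g * z * g⁻¹ * v)
    (hu : IsConj u (g * z * g⁻¹ * v)) : False := by
  set e := g * z * g⁻¹ with he
  have hze : IsConj z e := isConj_iff.2 ⟨g, rfl⟩
  have e2 : e * e = 1 := by rw [he, conj_mul, h.z2, mul_one, mul_inv_cancel]
  have u'2 : u' * u' = 1 := by
    obtain ⟨k, _, e⟩ := h.uu
    rw [← e, conj_mul, h.u2, mul_one, mul_inv_cancel]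
  have u'm := h.uu.mem h.um
  let t : Cx(v) := ⟨v, mem_Cx.2 rfl⟩
  have ht : t * t = 1 := Subtype.ext h.v2
  have := normal_zp v
  let π := QuotientGroup.mk' (zpowers t)
  let E : Cx(v) := ⟨e, mem_Cx.2 hc.symm⟩
  let U : Cx(v) := ⟨u', mem_Cx.2 h.uv⟩
  have key : ∀ (a : Cx(v)), IsConj (π E) (π a) →
      ∃ k : Cx(v), (k : G) * e * (k : G)⁻¹ = a ∨ (k : G) * e * (k : G)⁻¹ = a * v := by
    intro a ha
    obtain ⟨q, hq⟩ := isConj_iff.1 ha
    obtain ⟨k, rfl⟩ := QuotientGroup.mk'_surjective _ q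
    rw [← map_inv, ← map_mul, ← map_mul] at hq
    refine ⟨k, ?_⟩
    rcases eq_mod ht hq.symm with e1 | e1
    · exact Or.inl (congrArg Subtype.val e1)
    · exact Or.inr (congrArg Subtype.val e1)
  have cm : ∀ (a b : Cx(v)), π a * π b = π b * π a →
      (a : G) * b * (a : G)⁻¹ = b ∨ (a : G) * b * (a : G)⁻¹ = b * v := by
    intro a b hab
    have : π b = π (a * b * a⁻¹) := by rw [map_mul, map_mul, map_inv, hab, mul_inv_cancel_right]
    rcases eq_mod ht this with e1 | e1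
    · exact Or.inl (congrArg Subtype.val e1)
    · exact Or.inr (congrArg Subtype.val e1)
  obtain ⟨q, q1, -, qe, qu, hq⟩ := dihedral_pair (x := π E) (y := π U)
    (by rw [← map_mul, show E * E = 1 from Subtype.ext e2, map_one])
    (by rw [← map_mul, show U * U = 1 from Subtype.ext u'2, map_one]) (by
      intro hcj
      obtain ⟨k, e1 | e1⟩ := key U hcj
      · exact h.nzu ((hze.trans (isConj_iff.2 ⟨k, e1⟩)).trans h.uu.isConj.symm)
      · exact h.nzv ((hze.trans (isConj_iff.2 ⟨k, e1⟩)).trans h.uvv.isConj.symm))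
  obtain ⟨w, rfl⟩ := QuotientGroup.mk'_surjective _ q
  have wv := mem_Cx.1 w.2
  have wm : (w : G) ∈ G0 := h.rigu.c0 h.uu _ (by
    rcases cm w U qu with e1 | e1 <;> rw [e1]
    exacts [u'm, G0.mul_mem u'm h.vm])
  have we : (w : G) * e = e * w := by
    rcases cm w E qe with e1 | e1
    · exact mul_inv_eq_iff_eq_mul.1 e1
    · exact absurd ((hze.trans (isConj_iff.2 ⟨w, e1⟩)).trans hu.symm) h.nzu
  -- the two lifts of `w`
  have lift : ∀ w' : G, (w' = w ∨ w' = w * v) →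
      w' ∈ G0 ∧ w' ≠ 1 ∧ w' * e = e * w' ∧ w' * v = v * w' := by
    rintro w' (rfl | rfl)
    · exact ⟨wm, fun e1 => q1 (by rw [show w = 1 from Subtype.ext e1, map_one]), we, wv⟩
    · refine ⟨G0.mul_mem wm h.vm, fun e1 => q1 ?_, ?_, by rw [mul_assoc, ← mul_assoc v, ← wv, mul_assoc]⟩
      · refine (QuotientGroup.eq_one_iff _).2 ⟨-1, Subtype.ext ?_⟩
        change v ^ (-1 : ℤ) = w
        rw [zpow_neg_one, eq_inv_of_mul_eq_one_left e1]
      · rw [mul_assoc, hc, ← mul_assoc, we, mul_assoc]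
  rcases hq with ⟨hq, -⟩ | ⟨hq, -⟩
  · rw [← map_mul] at hq
    obtain ⟨k, hk⟩ := key _ hq
    have : ∃ w' : G, (w' = w ∨ w' = w * v) ∧ (k : G) * e * (k : G)⁻¹ = w' * e := by
      rcases hk with e1 | e1
      · exact ⟨w, Or.inl rfl, e1⟩
      · refine ⟨w * v, Or.inr rfl, e1.trans ?_⟩
        change w * e * v = _
        rw [mul_assoc, ← hc, mul_assoc]
    obtain ⟨w', hw', e1⟩ := this
    obtain ⟨a1, a2, a3, -⟩ := lift w' hw'
    refine h.prod_out hg (e' := w' * e) (e1 ▸ hze.trans (isConj_iff.2 ⟨k, rfl⟩)) ?_ ?_ ?_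
    · rw [← he, ← mul_assoc e, ← a3]
    · rw [← he]; intro e3; exact a2 (by simpa using e3)
    · rw [← he, mul_assoc, e2, mul_one]; exact a1
  · rw [← map_mul] at hq
    obtain ⟨k, hk⟩ := key _ hq
    have : ∃ w' : G, (w' = w ∨ w' = w * v) ∧ (k : G) * e * (k : G)⁻¹ = w' * u' := by
      rcases hk with e1 | e1
      · exact ⟨w, Or.inl rfl, e1⟩
      · refine ⟨w * v, Or.inr rfl, e1.trans ?_⟩
        change w * u' * v = _
        rw [mul_assoc, h.uv, mul_assoc]
    obtain ⟨w', hw', e1⟩ := this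
    obtain ⟨a1, a2, a3, a4⟩ := lift w' hw'
    have kv := mem_Cx'.1 k.2
    have hD := h.c0z (G0.mul_mem a1 u'm) (e1 ▸ hze.trans (isConj_iff.2 ⟨k, rfl⟩))
    have hdv : IsConj u (w' * u' * v) := hu.trans (isConj_iff.2 ⟨k, by rw [← conj_mul, e1, kv]⟩)
    have c1 : w' * u' * v = v * (w' * u') := by rw [mul_assoc, h.uv, ← mul_assoc, a4, mul_assoc]
    have c2 : w' * u' * u' = u' * (w' * u') := by
      have hb : π U * π ⟨w' * u', mem_Cx.2 c1⟩ = π ⟨w' * u', mem_Cx.2 c1⟩ * π U := by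
        have : π ⟨w' * u', mem_Cx.2 c1⟩ = π w * π U := by
          rw [← map_mul]
          rcases hw' with rfl | rfl
          · rfl
          · refine QuotientGroup.eq.2 ⟨1, Subtype.ext ?_⟩
            change v ^ (1 : ℤ) = (w * v * u')⁻¹ * (w * u')
            rw [zpow_one, mul_assoc (w : G), ← h.uv]
            exact (inv_of_sq h.v2).symm.trans (by group)
        rw [this, ← mul_assoc, ← qu]
      rcases cm U _ hb with e3 | e3
      · exact (mul_inv_eq_iff_eq_mul.1 e3).symm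
      · exact absurd ((hD.isConj.trans (isConj_iff.2 ⟨u', e3⟩)).trans hdv.symm) h.nzu
    have r1 := h.nrig hg a3
    have r2 := h.nrig hg (w := w' * v) (by rw [← he, mul_assoc, hc, ← mul_assoc, a3, mul_assoc])
    have e4 : w' * u' * u' = w' := by rw [mul_assoc, u'2, mul_one]
    rcases h.f6 _ hD c1 c2 with e3 | (e3 | e3) | e3 | e3
    · exact h.nuv (hdv.trans e3.isConj.symm)
    · exact r1 (e4 ▸ h.rigz.c0 e3)
    · exact r1 (e4 ▸ h.rigu.c0 e3)
    · exact r2 (e4 ▸ h.rigz.c0 e3)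
    · exact r2 (e4 ▸ h.rigu.c0 e3)

theorem eq_top : G0 = ⊤ := by
  rw [eq_top_iff]
  intro g _
  by_contra hg
  set e := g * z * g⁻¹ with he
  have hze : IsConj z e := isConj_iff.2 ⟨g, rfl⟩
  have e2 : e * e = 1 := by rw [he, conj_mul, h.z2, mul_one, mul_inv_cancel]
  obtain ⟨w, w1, w2, we, wu, hw⟩ := dihedral_pair h.u2 e2 (fun hc => h.nzu (hze.trans hc.symm))
  have wm : w ∈ G0 := h.cu (mem_Cx.2 we)
  have r := h.nrig hg wu
  rcases h.cls w wm w2 w1 with c | c | ⟨k, hk, c⟩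
  · exact r (h.rigz.c0 c)
  · exact r (h.rigu.c0 c)
  have hw' : IsConj u (w * e) := by
    rcases hw with ⟨-, hw⟩ | ⟨hw, -⟩
    · refine absurd ?_ (h.prod_out hg (hze.trans hw) ?_ ?_)
      · rw [← he, mul_assoc, e2, mul_one]; exact wm
      · rw [← he, ← mul_assoc e, ← wu]
      · rw [← he]; intro e3; exact w1 (by simpa using e3)
    · exact hw
  refine h.step (g := k⁻¹ * g) (fun hm => hg ((G0.mul_mem_cancel_left (G0.inv_mem hk)).1 hm)) ?_ ?_
  · rw [← c] at wu
    have := congrArg (fun y => k⁻¹ * y * k) wu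
    simpa [he, mul_assoc] using this
  · refine hw'.trans (isConj_iff.2 ⟨k⁻¹, ?_⟩)
    rw [wu, ← c, he]
    group

end Pat

end CfH8.Fi
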