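import Cfsg.Agent.OD.Pre
import Cfsg.Agent.H8.MC0
import Cfsg.Agent.H5.Nat1
import Cfsg.Agent.OD.Helper3x2a47a6fbf7
/-! The model of `2⁴ : A₆` and its embedding. -/
set_option autoImplicit false
set_option maxRecDepth 100000
set_option Elab.async false
set_option linter.all false
open CfL CfH6 MulAction Subgroup CfH4.M22 CfH9
namespace CfH8.M2
noncomputable def NTc0 : ℕ := nat_lit 0x941bc8fa256e07d3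
noncomputable def NTc1 : ℕ := nat_lit 0xd8f3041e672ac59b
noncomputable def NTc2 : ℕ := nat_lit 0x502a8c6b19f34d7e
noncomputable def NTc3 : ℕ := nat_lit 0xc73f95b6e8a2d401
noncomputable def NTc4 : ℕ := nat_lit 0xef0c23957184ab6d
noncomputable def NTc5 : ℕ := nat_lit 0x46dac83b70e9f125
noncomputable def NTc6 : ℕ := nat_lit 0x35db8c4a7e0f9126
noncomputable def NT : Tab := ⟨nat_lit 16, nat_lit 7, nat_lit 4, nat_lit 15, [NTc0, NTc1, NTc2, NTc3, NTc4, NTc5, NTc6], 0, 0, 0, 0, 0⟩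
def lvN4 : Lv := [(0, [[], [0], [1], [2], [3], [4], [5], [6], [0, 1], [0, 2], [0, 4], [0, 5], [0, 6], [1, 2], [1, 4], [2, 3]]),
  (1, [[], [0, 3, 4], [2, 5, 5], [3, 4, 5], [4, 6, 4], [6, 4, 3], [0, 1, 6, 1], [0, 3, 5, 4], [0, 4, 3, 6], [1, 2, 3, 5], [4, 5, 5, 4], [5, 4, 3, 5], [0, 3, 5, 5, 4], [0, 6, 1, 4, 5], [6, 4, 5, 5, 3]]),
  (2, [[], [3, 4, 5, 4, 6, 4], [1, 6, 4, 6, 4, 5, 4], [4, 6, 4, 5, 4, 3, 5], [5, 4, 5, 4, 6, 4, 5], [6, 4, 5, 4, 6, 4, 6], [0, 5, 5, 4, 6, 4, 5, 5], [6, 4, 3, 5, 5, 4, 6, 4, 5, 4, 6]]),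
  (3, [[], [0, 4, 6, 4, 5, 5, 4, 3, 5, 4, 6], [0, 5, 4, 0, 6, 4, 5, 5, 4, 5, 4]])]
def EW : List (List ℕ) := [[], [0], [1], [2], [3], [0, 1], [0, 2], [0, 3], [1, 2], [1, 3], [2, 3], [0, 1, 2], [0, 1, 3], [0, 2, 3], [1, 2, 3], [0, 1, 2, 3]]
def L0 : List (List ℕ) := [[4, 6, 4, 5], [5, 4], [4, 5, 5, 4], [4, 5, 4], [4], [4, 5, 4, 5], [5, 4, 5, 5, 4], [5], [5, 5, 4], [6, 4, 5, 4, 5], [], [5, 4, 5], [6, 4], [6, 4, 5], [4, 5]]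
def LH : List (List ℕ) := [[], [0], [1], [2], [3], [5], [6], [0, 1], [0, 2], [0, 3], [0, 5], [0, 6], [1, 2], [1, 3], [1, 5], [1, 6], [2, 3], [2, 5], [2, 6], [3, 5], [3, 6], [5, 3], [5, 5], [6, 1], [0, 1, 2], [0, 1, 3], [0, 1, 6], [0, 2, 3], [0, 2, 5], [0, 2, 6], [0, 3, 5], [0, 3, 6], [0, 5, 5], [0, 6, 1], [1, 2, 3], [1, 2, 5], [1, 2, 6], [1, 3, 5], [1, 3, 6], [1, 5, 5], [1, 6, 1], [2, 3, 5], [2, 5, 3], [2, 5, 5], [3, 5, 3], [3, 5, 5], [5, 3, 5], [5, 5, 3], [0, 1, 2, 3], [0, 1, 2, 6], [0, 1, 3, 6], [0, 1, 6, 1], [0, 2, 3, 5], [0, 2, 5, 5], [0, 3, 5, 5], [0, 5, 5, 3], [1, 2, 3, 5], [1, 2, 5, 5], [1, 3, 5, 5], [1, 5, 5, 3], [2, 3, 5, 3], [2, 5, 3, 5], [3, 5, 3, 5], [5, 3, 5, 3], [4, 6, 4, 5, 5, 4, 5, 4], [0, 4, 6, 4,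 5, 5, 4, 5, 4], [1, 4, 6, 4, 5, 5, 4, 5, 4], [2, 4, 6, 4, 5, 5, 4, 5, 4], [3, 4, 6, 4, 5, 5, 4, 5, 4], [4, 0, 6, 4, 5, 5, 4, 5, 4], [4, 3, 6, 4, 5, 5, 4, 5, 4], [4, 5, 4, 5, 4, 6, 4, 5, 4], [4, 6, 1, 4, 5, 5, 4, 5, 4], [4, 6, 4, 0, 5, 5, 4, 5, 4], [4, 6, 4, 3, 5, 5, 4, 5, 4], [4, 6, 4, 5, 4, 6, 4, 6, 4], [4, 6, 4, 5, 5, 3, 4, 5, 4], [4, 6, 4, 5, 5, 4, 3, 5, 4], [4, 6, 4, 5, 5, 4, 5, 3, 4], [4, 6, 4, 5, 5, 4, 5, 4, 6], [5, 4, 6, 4, 5, 5, 4, 5, 4], [0, 1, 4, 6, 4, 5, 5, 4, 5, 4], [0, 4, 3, 6, 4, 5, 5, 4, 5, 4], [0, 4, 5, 4, 5, 4, 6, 4, 5, 4], [0, 4, 6, 4, 5, 4, 6, 4, 6, 4], [0, 4, 6, 4, 5, 5, 4, 3, 5, 4], [0, 4, 6, 4, 5, 5, 4, 5, 4, 6], [0, 5, 4, 6, 4, 5, 5, 4, 5, 4], [1, 4, 5, 4, 5, 4, 6, 4, 5, 4], [1, 4, 6, 4, 5,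 4, 6, 4, 6, 4], [1, 4, 6, 4, 5, 5, 4, 5, 4, 6], [1, 5, 4, 6, 4, 5, 5, 4, 5, 4], [2, 4, 5, 4, 5, 4, 6, 4, 5, 4], [2, 4, 6, 4, 5, 4, 6, 4, 6, 4], [2, 4, 6, 4, 5, 5, 4, 5, 4, 6], [2, 5, 4, 6, 4, 5, 5, 4, 5, 4], [3, 4, 5, 4, 5, 4, 6, 4, 5, 4], [3, 4, 6, 4, 5, 4, 6, 4, 6, 4], [3, 4, 6, 4, 5, 5, 4, 5, 4, 6], [3, 5, 4, 6, 4, 5, 5, 4, 5, 4], [4, 0, 5, 4, 5, 4, 6, 4, 5, 4], [4, 0, 6, 4, 5, 4, 6, 4, 6, 4], [4, 0, 6, 4, 5, 5, 4, 5, 4, 6], [4, 3, 5, 4, 5, 4, 6, 4, 5, 4], [4, 3, 6, 4, 5, 4, 6, 4, 6, 4], [4, 3, 6, 4, 5, 5, 4, 5, 4, 6], [4, 5, 3, 4, 5, 4, 6, 4, 5, 4], [4, 5, 4, 0, 5, 4, 6, 4, 5, 4], [4, 5, 4, 3, 5, 4, 6, 4, 5, 4], [4, 5, 4, 5, 3, 4, 6, 4, 5, 4], [4, 5, 4, 5, 4, 0, 6, 4, 5, 4], [4, 5, 4, 5, 4, 3, 6, 4, 5, 4], [4,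 5, 4, 5, 4, 6, 4, 5, 4, 3], [4, 5, 4, 5, 4, 6, 4, 5, 4, 5], [4, 5, 4, 5, 4, 6, 4, 5, 4, 6], [4, 5, 4, 6, 4, 5, 4, 5, 5, 4], [4, 6, 1, 4, 5, 4, 6, 4, 6, 4], [4, 6, 1, 4, 5, 5, 4, 5, 4, 6], [4, 6, 4, 0, 5, 4, 6, 4, 6, 4], [4, 6, 4, 0, 5, 5, 4, 5, 4, 6], [4, 6, 4, 3, 5, 4, 6, 4, 6, 4], [4, 6, 4, 3, 5, 5, 4, 5, 4, 6], [4, 6, 4, 5, 4, 3, 6, 4, 6, 4], [4, 6, 4, 5, 4, 6, 1, 4, 6, 4], [4, 6, 4, 5, 4, 6, 4, 6, 4, 0], [4, 6, 4, 5, 4, 6, 4, 6, 4, 3], [4, 6, 4, 5, 4, 6, 4, 6, 4, 5], [4, 6, 4, 5, 5, 3, 4, 5, 4, 5], [4, 6, 4, 5, 5, 3, 4, 5, 4, 6], [4, 6, 4, 5, 5, 4, 3, 5, 4, 6], [4, 6, 4, 5, 5, 4, 5, 3, 4, 5], [4, 6, 4, 5, 5, 4, 5, 3, 4, 6], [5, 3, 4, 6, 4, 5, 5, 4, 5, 4], [5, 4, 0, 6, 4, 5, 5, 4, 5, 4], [5, 4, 3, 6, 4, 5, 5,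 4, 5, 4], [5, 4, 6, 1, 4, 5, 5, 4, 5, 4], [5, 4, 6, 4, 0, 5, 5, 4, 5, 4], [5, 4, 6, 4, 3, 5, 5, 4, 5, 4], [5, 4, 6, 4, 5, 5, 4, 3, 5, 4], [5, 4, 6, 4, 5, 5, 4, 5, 3, 4], [5, 4, 6, 4, 5, 5, 4, 5, 4, 6], [5, 5, 4, 6, 4, 5, 5, 4, 5, 4], [6, 4, 3, 6, 4, 5, 5, 4, 5, 4], [6, 4, 6, 4, 3, 5, 5, 4, 5, 4], [0, 1, 4, 6, 4, 5, 5, 4, 5, 4, 6], [0, 3, 5, 4, 6, 4, 5, 5, 4, 5, 4], [0, 4, 3, 6, 4, 5, 5, 4, 5, 4, 6], [0, 4, 5, 4, 5, 4, 6, 4, 5, 4, 5], [0, 4, 5, 4, 5, 4, 6, 4, 5, 4, 6], [0, 4, 5, 4, 6, 4, 5, 4, 5, 5, 4], [0, 4, 6, 4, 5, 4, 6, 4, 6, 4, 5], [0, 4, 6, 4, 5, 5, 4, 3, 5, 4, 6], [0, 5, 4, 0, 6, 4, 5, 5, 4, 5, 4], [0, 5, 4, 3, 6, 4, 5, 5, 4, 5, 4], [0, 5, 4, 6, 4, 5, 5, 4, 5, 4, 6], [0, 5, 5, 4, 6, 4, 5, 5, 4, 5, 4], [1,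 4, 5, 4, 5, 4, 6, 4, 5, 4, 5], [1, 4, 5, 4, 5, 4, 6, 4, 5, 4, 6], [1, 4, 5, 4, 6, 4, 5, 4, 5, 5, 4], [1, 4, 6, 4, 5, 4, 6, 4, 6, 4, 5], [1, 5, 4, 6, 4, 5, 5, 4, 5, 4, 6], [1, 5, 5, 4, 6, 4, 5, 5, 4, 5, 4], [2, 4, 5, 4, 5, 4, 6, 4, 5, 4, 5], [2, 4, 5, 4, 5, 4, 6, 4, 5, 4, 6], [2, 4, 5, 4, 6, 4, 5, 4, 5, 5, 4], [2, 4, 6, 4, 5, 4, 6, 4, 6, 4, 5], [2, 5, 4, 6, 4, 5, 5, 4, 5, 4, 6], [2, 5, 5, 4, 6, 4, 5, 5, 4, 5, 4], [3, 4, 5, 4, 5, 4, 6, 4, 5, 4, 5], [3, 4, 5, 4, 5, 4, 6, 4, 5, 4, 6], [3, 4, 5, 4, 6, 4, 5, 4, 5, 5, 4], [3, 4, 6, 4, 5, 4, 6, 4, 6, 4, 5], [3, 5, 4, 6, 4, 5, 5, 4, 5, 4, 6], [3, 5, 5, 4, 6, 4, 5, 5, 4, 5, 4], [4, 0, 5, 4, 5, 4, 6, 4, 5, 4, 5], [4, 0, 5, 4, 5, 4, 6, 4, 5, 4, 6], [4, 0, 5, 4, 6, 4, 5, 4, 5,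 5, 4], [4, 0, 6, 4, 5, 4, 6, 4, 6, 4, 5], [4, 3, 5, 4, 5, 4, 6, 4, 5, 4, 5], [4, 3, 5, 4, 5, 4, 6, 4, 5, 4, 6], [4, 3, 5, 4, 6, 4, 5, 4, 5, 5, 4], [4, 3, 6, 4, 5, 4, 6, 4, 6, 4, 5], [4, 5, 3, 4, 5, 4, 6, 4, 5, 4, 5], [4, 5, 3, 4, 5, 4, 6, 4, 5, 4, 6], [4, 5, 3, 4, 6, 4, 5, 4, 5, 5, 4], [4, 5, 4, 0, 5, 4, 6, 4, 5, 4, 5], [4, 5, 4, 0, 5, 4, 6, 4, 5, 4, 6], [4, 5, 4, 0, 6, 4, 5, 4, 5, 5, 4], [4, 5, 4, 3, 5, 4, 6, 4, 5, 4, 5], [4, 5, 4, 3, 5, 4, 6, 4, 5, 4, 6], [4, 5, 4, 3, 6, 4, 5, 4, 5, 5, 4], [4, 5, 4, 5, 3, 4, 6, 4, 5, 4, 5], [4, 5, 4, 5, 3, 4, 6, 4, 5, 4, 6], [4, 5, 4, 5, 4, 0, 6, 4, 5, 4, 5], [4, 5, 4, 5, 4, 0, 6, 4, 5, 4, 6], [4, 5, 4, 5, 4, 3, 6, 4, 5, 4, 5], [4, 5, 4, 5, 4, 3, 6, 4, 5, 4, 6], [4, 5, 4, 5, 4,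 6, 4, 5, 4, 3, 5], [4, 5, 4, 5, 4, 6, 4, 5, 4, 3, 6], [4, 5, 4, 5, 4, 6, 4, 5, 4, 5, 5], [4, 5, 4, 5, 4, 6, 4, 5, 4, 6, 1], [4, 5, 4, 6, 1, 4, 5, 4, 5, 5, 4], [4, 5, 4, 6, 4, 5, 4, 3, 5, 5, 4], [4, 5, 4, 6, 4, 5, 4, 5, 5, 3, 4], [4, 5, 4, 6, 4, 5, 4, 5, 5, 4, 0], [4, 5, 4, 6, 4, 5, 4, 5, 5, 4, 3], [4, 5, 4, 6, 4, 5, 4, 5, 5, 4, 5], [4, 6, 1, 4, 5, 4, 6, 4, 6, 4, 5], [4, 6, 4, 0, 5, 4, 6, 4, 6, 4, 5], [4, 6, 4, 3, 5, 4, 6, 4, 6, 4, 5], [4, 6, 4, 5, 4, 3, 6, 4, 6, 4, 5], [4, 6, 4, 5, 4, 6, 1, 4, 6, 4, 5], [4, 6, 4, 5, 4, 6, 4, 6, 4, 0, 5], [4, 6, 4, 5, 4, 6, 4, 6, 4, 3, 5], [4, 6, 4, 5, 5, 3, 4, 5, 4, 5, 5], [4, 6, 4, 5, 5, 4, 5, 3, 4, 5, 5], [5, 3, 4, 6, 4, 5, 5, 4, 5, 4, 6], [5, 3, 5, 4, 6, 4, 5, 5, 4, 5, 4], [5,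 4, 0, 6, 4, 5, 5, 4, 5, 4, 6], [5, 4, 3, 6, 4, 5, 5, 4, 5, 4, 6], [5, 4, 5, 4, 6, 4, 5, 4, 5, 5, 4], [5, 4, 6, 1, 4, 5, 5, 4, 5, 4, 6], [5, 4, 6, 4, 0, 5, 5, 4, 5, 4, 6], [5, 4, 6, 4, 3, 5, 5, 4, 5, 4, 6], [5, 4, 6, 4, 5, 5, 4, 3, 5, 4, 6], [5, 4, 6, 4, 5, 5, 4, 5, 3, 4, 5], [5, 4, 6, 4, 5, 5, 4, 5, 3, 4, 6], [5, 5, 3, 4, 6, 4, 5, 5, 4, 5, 4], [5, 5, 4, 0, 6, 4, 5, 5, 4, 5, 4], [5, 5, 4, 3, 6, 4, 5, 5, 4, 5, 4], [5, 5, 4, 6, 1, 4, 5, 5, 4, 5, 4], [5, 5, 4, 6, 4, 0, 5, 5, 4, 5, 4], [5, 5, 4, 6, 4, 3, 5, 5, 4, 5, 4], [5, 5, 4, 6, 4, 5, 5, 4, 3, 5, 4], [5, 5, 4, 6, 4, 5, 5, 4, 5, 3, 4], [5, 5, 4, 6, 4, 5, 5, 4, 5, 4, 6], [6, 4, 0, 5, 4, 5, 4, 6, 4, 5, 4], [6, 4, 3, 6, 4, 5, 4, 6, 4, 6, 4], [6, 4, 3, 6, 4, 5, 5, 4, 5,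 4, 6], [6, 4, 5, 4, 5, 3, 4, 6, 4, 5, 4], [6, 4, 6, 4, 3, 5, 4, 6, 4, 6, 4], [0, 3, 5, 4, 6, 4, 5, 5, 4, 5, 4, 6], [0, 4, 5, 4, 5, 4, 6, 4, 5, 4, 5, 5], [0, 4, 5, 4, 6, 4, 5, 4, 5, 5, 4, 5], [0, 5, 4, 0, 6, 4, 5, 5, 4, 5, 4, 6], [0, 5, 4, 3, 6, 4, 5, 5, 4, 5, 4, 6], [0, 5, 4, 5, 4, 6, 4, 5, 4, 5, 5, 4], [0, 5, 5, 4, 6, 4, 5, 5, 4, 5, 4, 6], [1, 4, 5, 4, 5, 4, 6, 4, 5, 4, 5, 5], [1, 4, 5, 4, 6, 4, 5, 4, 5, 5, 4, 5], [1, 5, 4, 5, 4, 6, 4, 5, 4, 5, 5, 4], [1, 5, 5, 4, 6, 4, 5, 5, 4, 5, 4, 6], [2, 4, 5, 4, 5, 4, 6, 4, 5, 4, 5, 5], [2, 4, 5, 4, 6, 4, 5, 4, 5, 5, 4, 5], [2, 5, 4, 5, 4, 6, 4, 5, 4, 5, 5, 4], [2, 5, 5, 4, 6, 4, 5, 5, 4, 5, 4, 6], [3, 4, 5, 4, 5, 4, 6, 4, 5, 4, 5, 5], [3, 4, 5, 4, 6, 4, 5, 4, 5, 5, 4, 5],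 [3, 5, 4, 5, 4, 6, 4, 5, 4, 5, 5, 4], [3, 5, 5, 4, 6, 4, 5, 5, 4, 5, 4, 6], [4, 0, 5, 4, 5, 4, 6, 4, 5, 4, 5, 5], [4, 0, 5, 4, 6, 4, 5, 4, 5, 5, 4, 5], [4, 3, 5, 4, 5, 4, 6, 4, 5, 4, 5, 5], [4, 3, 5, 4, 6, 4, 5, 4, 5, 5, 4, 5], [4, 5, 3, 4, 5, 4, 6, 4, 5, 4, 5, 5], [4, 5, 3, 4, 6, 4, 5, 4, 5, 5, 4, 5], [4, 5, 4, 0, 5, 4, 6, 4, 5, 4, 5, 5], [4, 5, 4, 0, 6, 4, 5, 4, 5, 5, 4, 5], [4, 5, 4, 3, 5, 4, 6, 4, 5, 4, 5, 5], [4, 5, 4, 3, 6, 4, 5, 4, 5, 5, 4, 5], [4, 5, 4, 5, 3, 4, 6, 4, 5, 4, 5, 5], [4, 5, 4, 5, 4, 0, 6, 4, 5, 4, 5, 5], [4, 5, 4, 5, 4, 3, 6, 4, 5, 4, 5, 5], [4, 5, 4, 5, 4, 6, 4, 5, 4, 3, 5, 5], [4, 5, 4, 5, 4, 6, 4, 5, 4, 5, 5, 3], [4, 5, 4, 6, 1, 4, 5, 4, 5, 5, 4, 5], [4, 5, 4, 6, 4, 5, 4, 3, 5, 5, 4, 5],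 [4, 5, 4, 6, 4, 5, 4, 5, 5, 3, 4, 5], [4, 5, 4, 6, 4, 5, 4, 5, 5, 4, 0, 5], [4, 5, 4, 6, 4, 5, 4, 5, 5, 4, 3, 5], [5, 3, 4, 5, 4, 6, 4, 5, 4, 5, 5, 4], [5, 3, 5, 4, 6, 4, 5, 5, 4, 5, 4, 6], [5, 4, 0, 5, 4, 6, 4, 5, 4, 5, 5, 4], [5, 4, 3, 5, 4, 6, 4, 5, 4, 5, 5, 4], [5, 4, 5, 3, 4, 6, 4, 5, 4, 5, 5, 4], [5, 4, 5, 4, 0, 6, 4, 5, 4, 5, 5, 4], [5, 4, 5, 4, 3, 6, 4, 5, 4, 5, 5, 4], [5, 4, 5, 4, 6, 4, 5, 4, 3, 5, 5, 4], [5, 4, 5, 4, 6, 4, 5, 4, 5, 5, 3, 4], [5, 4, 5, 4, 6, 4, 5, 4, 5, 5, 4, 0], [5, 4, 5, 4, 6, 4, 5, 4, 5, 5, 4, 3], [5, 4, 5, 4, 6, 4, 5, 4, 5, 5, 4, 5], [5, 4, 6, 4, 5, 5, 4, 5, 3, 4, 5, 5], [5, 5, 3, 4, 6, 4, 5, 5, 4, 5, 4, 6], [5, 5, 4, 0, 6, 4, 5, 5, 4, 5, 4, 6], [5, 5, 4, 3, 6, 4, 5, 5, 4, 5, 4, 6],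 [5, 5, 4, 6, 1, 4, 5, 5, 4, 5, 4, 6], [5, 5, 4, 6, 4, 0, 5, 5, 4, 5, 4, 6], [5, 5, 4, 6, 4, 3, 5, 5, 4, 5, 4, 6], [5, 5, 4, 6, 4, 5, 5, 4, 3, 5, 4, 6], [5, 5, 4, 6, 4, 5, 5, 4, 5, 3, 4, 5], [5, 5, 4, 6, 4, 5, 5, 4, 5, 3, 4, 6], [6, 4, 0, 5, 4, 5, 4, 6, 4, 5, 4, 6], [6, 4, 3, 6, 4, 5, 4, 6, 4, 6, 4, 5], [6, 4, 5, 4, 5, 3, 4, 6, 4, 5, 4, 6], [0, 5, 4, 5, 4, 6, 4, 5, 4, 5, 5, 4, 5], [1, 5, 4, 5, 4, 6, 4, 5, 4, 5, 5, 4, 5], [2, 5, 4, 5, 4, 6, 4, 5, 4, 5, 5, 4, 5], [3, 5, 4, 5, 4, 6, 4, 5, 4, 5, 5, 4, 5], [4, 5, 4, 6, 4, 5, 5, 4, 6, 4, 5, 5, 4], [4, 5, 5, 4, 6, 4, 5, 5, 4, 6, 4, 5, 4], [5, 3, 4, 5, 4, 6, 4, 5, 4, 5, 5, 4, 5], [5, 4, 0, 5, 4, 6, 4, 5, 4, 5, 5, 4, 5], [5, 4, 3, 5, 4, 6, 4, 5, 4, 5, 5, 4, 5], [5, 4, 5, 3,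 4, 6, 4, 5, 4, 5, 5, 4, 5], [5, 4, 5, 4, 0, 6, 4, 5, 4, 5, 5, 4, 5], [5, 4, 5, 4, 3, 6, 4, 5, 4, 5, 5, 4, 5], [5, 4, 5, 4, 6, 4, 5, 4, 3, 5, 5, 4, 5], [5, 4, 5, 4, 6, 4, 5, 4, 5, 5, 3, 4, 5], [5, 4, 5, 4, 6, 4, 5, 4, 5, 5, 4, 0, 5], [5, 4, 5, 4, 6, 4, 5, 4, 5, 5, 4, 3, 5], [5, 5, 4, 6, 4, 5, 5, 4, 5, 3, 4, 5, 5], [0, 4, 5, 4, 6, 4, 5, 5, 4, 6, 4, 5, 5, 4], [0, 4, 5, 5, 4, 6, 4, 5, 5, 4, 6, 4, 5, 4], [1, 4, 5, 4, 6, 4, 5, 5, 4, 6, 4, 5, 5, 4], [1, 4, 5, 5, 4, 6, 4, 5, 5, 4, 6, 4, 5, 4], [2, 4, 5, 4, 6, 4, 5, 5, 4, 6, 4, 5, 5, 4], [2, 4, 5, 5, 4, 6, 4, 5, 5, 4, 6, 4, 5, 4], [3, 4, 5, 4, 6, 4, 5, 5, 4, 6, 4, 5, 5, 4], [3, 4, 5, 5, 4, 6, 4, 5, 5, 4, 6, 4, 5, 4], [4, 0, 5, 4, 6, 4, 5, 5, 4, 6, 4, 5, 5, 4], [4, 0, 5, 5,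 4, 6, 4, 5, 5, 4, 6, 4, 5, 4], [4, 3, 5, 4, 6, 4, 5, 5, 4, 6, 4, 5, 5, 4], [4, 3, 5, 5, 4, 6, 4, 5, 5, 4, 6, 4, 5, 4], [4, 5, 3, 4, 6, 4, 5, 5, 4, 6, 4, 5, 5, 4], [4, 5, 3, 5, 4, 6, 4, 5, 5, 4, 6, 4, 5, 4], [4, 5, 4, 0, 6, 4, 5, 5, 4, 6, 4, 5, 5, 4], [4, 5, 4, 3, 6, 4, 5, 5, 4, 6, 4, 5, 5, 4], [4, 5, 4, 6, 1, 4, 5, 5, 4, 6, 4, 5, 5, 4], [4, 5, 4, 6, 4, 5, 5, 4, 3, 6, 4, 5, 5, 4], [4, 5, 4, 6, 4, 5, 5, 4, 6, 1, 4, 5, 5, 4], [4, 5, 4, 6, 4, 5, 5, 4, 6, 4, 3, 5, 5, 4], [4, 5, 4, 6, 4, 5, 5, 4, 6, 4, 5, 5, 4, 5], [4, 5, 4, 6, 4, 6, 4, 0, 5, 4, 5, 4, 6, 4], [4, 5, 4, 6, 4, 6, 4, 3, 5, 4, 5, 4, 6, 4], [4, 5, 5, 3, 4, 6, 4, 5, 5, 4, 6, 4, 5, 4], [4, 5, 5, 4, 0, 6, 4, 5, 5, 4, 6, 4, 5, 4], [4, 5, 5, 4, 3, 6, 4, 5, 5, 4,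 6, 4, 5, 4], [4, 5, 5, 4, 6, 1, 4, 5, 5, 4, 6, 4, 5, 4], [4, 5, 5, 4, 6, 4, 0, 5, 5, 4, 6, 4, 5, 4], [4, 5, 5, 4, 6, 4, 3, 5, 5, 4, 6, 4, 5, 4], [4, 5, 5, 4, 6, 4, 5, 5, 4, 6, 1, 4, 5, 4], [4, 5, 5, 4, 6, 4, 5, 5, 4, 6, 4, 5, 4, 6], [4, 6, 4, 3, 5, 4, 5, 4, 6, 4, 6, 4, 5, 4], [0, 4, 5, 4, 6, 4, 5, 5, 4, 6, 4, 5, 5, 4, 5], [0, 4, 5, 5, 4, 6, 4, 5, 5, 4, 6, 4, 5, 4, 6], [1, 4, 5, 4, 6, 4, 5, 5, 4, 6, 4, 5, 5, 4, 5], [1, 4, 5, 5, 4, 6, 4, 5, 5, 4, 6, 4, 5, 4, 6], [2, 4, 5, 4, 6, 4, 5, 5, 4, 6, 4, 5, 5, 4, 5], [2, 4, 5, 5, 4, 6, 4, 5, 5, 4, 6, 4, 5, 4, 6], [3, 4, 5, 4, 6, 4, 5, 5, 4, 6, 4, 5, 5, 4, 5], [3, 4, 5, 5, 4, 6, 4, 5, 5, 4, 6, 4, 5, 4, 6], [4, 0, 5, 4, 6, 4, 5, 5, 4, 6, 4, 5, 5, 4, 5], [4, 0, 5, 5, 4, 6, 4,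 5, 5, 4, 6, 4, 5, 4, 6], [4, 3, 5, 4, 6, 4, 5, 5, 4, 6, 4, 5, 5, 4, 5], [4, 3, 5, 5, 4, 6, 4, 5, 5, 4, 6, 4, 5, 4, 6], [4, 5, 3, 4, 6, 4, 5, 5, 4, 6, 4, 5, 5, 4, 5], [4, 5, 3, 5, 4, 6, 4, 5, 5, 4, 6, 4, 5, 4, 6], [4, 5, 4, 0, 6, 4, 5, 5, 4, 6, 4, 5, 5, 4, 5], [4, 5, 4, 3, 6, 4, 5, 5, 4, 6, 4, 5, 5, 4, 5], [4, 5, 4, 6, 1, 4, 5, 5, 4, 6, 4, 5, 5, 4, 5], [4, 5, 4, 6, 4, 5, 5, 4, 3, 6, 4, 5, 5, 4, 5], [4, 5, 4, 6, 4, 5, 5, 4, 6, 1, 4, 5, 5, 4, 5], [4, 5, 4, 6, 4, 5, 5, 4, 6, 4, 3, 5, 5, 4, 5], [4, 5, 4, 6, 4, 5, 5, 4, 6, 4, 5, 5, 4, 5, 3], [4, 5, 4, 6, 4, 6, 4, 0, 5, 4, 5, 4, 6, 4, 5], [4, 5, 5, 3, 4, 6, 4, 5, 5, 4, 6, 4, 5, 4, 6], [4, 5, 5, 4, 0, 6, 4, 5, 5, 4, 6, 4, 5, 4, 6], [4, 5, 5, 4, 3, 6, 4, 5, 5, 4, 6, 4, 5,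 4, 6], [4, 5, 5, 4, 6, 1, 4, 5, 5, 4, 6, 4, 5, 4, 6], [4, 5, 5, 4, 6, 4, 0, 5, 5, 4, 6, 4, 5, 4, 6], [4, 5, 5, 4, 6, 4, 3, 5, 5, 4, 6, 4, 5, 4, 6], [4, 5, 5, 4, 6, 4, 5, 5, 4, 6, 1, 4, 5, 4, 6], [4, 5, 5, 4, 6, 4, 5, 5, 4, 6, 4, 5, 4, 6, 1]]
def LZ : List (List ℕ) := [[], [0], [1], [0, 1], [4, 5, 4, 6, 4, 5, 5], [5, 4, 5, 4, 6, 4, 5], [5, 5, 4, 5, 4, 6, 4], [6, 4, 5, 4, 6, 4, 6], [0, 4, 5, 4, 6, 4, 5, 5], [0, 5, 4, 5, 4, 6, 4, 5], [0, 5, 5, 4, 5, 4, 6, 4], [0, 6, 4, 5, 4, 6, 4, 6], [1, 4, 5, 4, 6, 4, 5, 5], [1, 5, 4, 5, 4, 6, 4, 5], [1, 5, 5, 4, 5, 4, 6, 4], [1, 6, 4, 5, 4, 6, 4, 6], [4, 5, 4, 0, 6, 4, 5, 5], [5, 3, 4, 5, 4, 6, 4, 5], [5, 3, 5, 4, 5, 4, 6, 4], [6, 4, 5, 4, 6, 1, 4, 6], [4, 5, 4, 5, 5, 4, 5, 4, 6,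 4, 5, 4], [4, 5, 4, 5, 5, 4, 6, 4, 5, 5, 4, 6], [4, 6, 4, 5, 4, 6, 4, 5, 5, 4, 6, 4], [5, 4, 5, 4, 6, 4, 6, 4, 5, 4, 6, 4], [0, 4, 5, 4, 5, 5, 4, 5, 4, 6, 4, 5, 4], [0, 4, 5, 4, 5, 5, 4, 6, 4, 5, 5, 4, 6], [0, 4, 6, 4, 5, 4, 6, 4, 5, 5, 4, 6, 4], [0, 5, 4, 5, 4, 6, 4, 6, 4, 5, 4, 6, 4], [1, 4, 5, 4, 5, 5, 4, 5, 4, 6, 4, 5, 4], [1, 4, 5, 4, 5, 5, 4, 6, 4, 5, 5, 4, 6], [1, 4, 6, 4, 5, 4, 6, 4, 5, 5, 4, 6, 4], [1, 5, 4, 5, 4, 6, 4, 6, 4, 5, 4, 6, 4], [4, 5, 4, 0, 5, 5, 4, 5, 4, 6, 4, 5, 4], [4, 5, 4, 0, 5, 5, 4, 6, 4, 5, 5, 4, 6], [4, 6, 4, 5, 4, 3, 6, 4, 5, 5, 4, 6, 4], [5, 3, 4, 5, 4, 6, 4, 6, 4, 5, 4, 6, 4]]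
def L2 : List (List ℕ) := [[0, 2], [0, 1, 3], [1, 2, 3], [4, 5, 4, 5, 4, 6, 4, 5, 4, 5], [5, 4, 6, 4, 5, 5, 4, 5, 4, 6], [4, 0, 5, 4, 5, 4, 6, 4, 5, 4, 5], [4, 5, 4, 3, 5, 4, 6, 4, 5, 4, 5], [4, 5, 4, 5, 4, 0, 6, 4, 5, 4, 5], [5, 4, 6, 1, 4, 5, 5, 4, 5, 4, 6], [5, 4, 6, 4, 0, 5, 5, 4, 5, 4, 6], [0, 5, 4, 0, 6, 4, 5, 5, 4, 5, 4, 6], [4, 5, 5, 4, 6, 4, 5, 5, 4, 6, 4, 5, 4, 6], [4, 0, 5, 5, 4, 6, 4, 5, 5, 4, 6, 4, 5, 4, 6], [4, 5, 5, 3, 4, 6, 4, 5, 5, 4, 6, 4, 5, 4, 6], [4, 5, 5, 4, 6, 4, 3, 5, 5, 4, 6, 4, 5, 4, 6]]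
def LT : List (List ℕ) := [[5], [1, 5, 5], [4, 5, 4, 5, 4, 6, 4, 5, 4], [4, 6, 4, 5, 5, 4, 5, 4, 6], [4, 5, 4, 6, 4, 5, 4, 5, 5, 4, 5], [4, 5, 4, 5, 4, 6, 4, 5, 4, 5, 5], [0, 4, 6, 4, 5, 5, 4, 5, 4], [0, 4, 5, 4, 5, 4, 6, 4, 5, 4, 5], [1, 3, 5], [1, 3, 5, 5], [1, 5, 5, 3]]
def LC : List (List ℕ) := [[6], [3, 6], [0, 6], [1, 6], [], [5, 5], [1], [0], [3], [3, 5, 5], [0, 5, 5], [1, 5, 5], [5], [4, 6, 4, 5, 4, 6, 4, 6, 4], [0, 5], [1, 5], [3, 5], [0, 4, 6, 4, 5, 4, 6, 4, 6, 4], [1, 4, 6, 4, 5, 4, 6, 4, 6, 4], [4, 6, 4, 5, 5, 4, 5, 4], [3, 4, 6, 4, 5, 4, 6, 4, 6, 4], [1, 4, 6, 4, 5, 5, 4, 5, 4], [0, 4, 6, 4, 5, 5, 4, 5, 4], [3, 4, 6, 4, 5, 5, 4, 5, 4]]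
def LM : List (List ℕ) := [[], [0, 5, 5], [0, 4, 6, 4, 5, 4], [1, 4, 6, 4, 5, 4], [4, 6, 4, 5, 4], [3, 5, 5], [0], [3, 4, 6, 4, 5, 4], [5, 5], [4, 5, 4, 5, 5, 4, 5], [1], [1, 5, 5], [3]]
def wV : List ℕ := [4, 5, 4, 5, 4, 6, 4, 5, 4, 5]
def wZ : List ℕ := [4, 5, 4, 6, 4, 5, 5]
theorem NT_act : NT.Act il rN := ⟨by decide +kernel, by decide +kernel, by decide +kernel⟩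
abbrev N : Type := WP 7 il rN
abbrev el : ℕ → N := wel 7 il rN
theorem finN' : Finite N ∧ Nat.card N ≤ 360 * (16 * 1) :=
  fin_top (wp_top 7 il rN ▸ finN (wp_inv 7 il rN) (wp_rel 7 il rN))
instance : Finite N := finN'.1
noncomputable def RN : Rep NT el := Classical.choice NT_act.rep
theorem kN : NT.lvOk 7 lvN4 [] = true := by decide +kernel
theorem cN4 : Nat.card N ≤ lvN lvN4 := finN'.2.trans (by decide +kernel)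
def b4 : List ℕ := [3, 2, 1, 0]
theorem bN : ∀ g ∈ RN.Fx b4, g = 1 := (lv_base RN lvN4 (wp_top 7 il rN) kN cN4).2

noncomputable def cE (u v : List ℕ) : Bool := allLt 7 u && allLt 7 v && NT.same b4 u v
noncomputable def cN (u v : List ℕ) : Bool := allLt 7 u && allLt 7 v && !NT.same b4 u v
def cw (k w : List ℕ) : List ℕ := k ++ (w ++ invw il k)
noncomputable def cJ (k u v : List ℕ) : Bool := allLt 7 k && cE (cw k u) v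
noncomputable def cC (u v : List ℕ) : Bool := cE (u ++ v) (v ++ u)
noncomputable def cD (u v : List ℕ) : Bool := cN (u ++ v) (v ++ u)
noncomputable def code (w : List ℕ) : ℕ := NT.trL w 0 + 16 * (NT.trL w 1 + 16 * (NT.trL w 2 + 16 * NT.trL w 3))
noncomputable def nd (L : List (List ℕ)) : Bool := L.all (allLt 7) && decide (L.map code).Nodup

/-- the words take the same values as in the model -/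
structure Emb {G : Type*} [Group G] (ev : ℕ → G) : Prop where
  inv : ∀ x < 7, ev (il.getD x 0) = (ev x)⁻¹
  iff : ∀ u v, allLt 7 u = true → allLt 7 v = true → (NT.same b4 u v = true ↔ evw ev u = evw ev v)

namespace Emb
variable {G : Type*} [Group G] {ev : ℕ → G} (m : Emb ev) {k u v : List ℕ}
include m
theorem eq (h : cE u v = true := by decide +kernel) : evw ev u = evw ev v := by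
  simp only [cE, Bool.and_eq_true] at h
  exact (m.iff u v h.1.1 h.1.2).1 h.2
theorem ne (h : cN u v = true := by decide +kernel) : evw ev u ≠ evw ev v := fun e => by
  simp only [cN, Bool.and_eq_true] at h
  rw [(m.iff u v h.1.1 h.1.2).2 e] at h
  exact absurd h.2 (by decide)
theorem cw (h : allLt 7 k = true) : evw ev (cw k u) = evw ev k * evw ev u * (evw ev k)⁻¹ := by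
  rw [M2.cw, evw_append, evw_append, evw_invw ev il 7 m.inv k (allLt_sound h), mul_assoc]
theorem cj (h : cJ k u v = true := by decide +kernel) : evw ev k * evw ev u * (evw ev k)⁻¹ = evw ev v := by
  rw [cJ, Bool.and_eq_true] at h
  rw [← m.eq h.2, m.cw h.1]
theorem cm (h : cC u v = true := by decide +kernel) : evw ev u * evw ev v = evw ev v * evw ev u := by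
  rw [← evw_append, m.eq h, evw_append]
theorem nc (h : cD u v = true := by decide +kernel) : evw ev u * evw ev v ≠ evw ev v * evw ev u := by
  rw [← evw_append, ← evw_append]; exact m.ne h
theorem ncard (L : List (List ℕ)) (h : nd L = true) : {g | ∃ w ∈ L, g = evw ev w}.ncard = L.length := by
  classical
  rw [nd, Bool.and_eq_true, decide_eq_true_eq, List.all_eq_true] at h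
  have : (L.map (evw ev)).Nodup := List.pairwise_map.2 ((List.pairwise_map.1 h.2).imp_of_mem fun {a b} ha hb n e => n (by
    have := List.all_eq_true.1 ((m.iff a b (h.1 a ha) (h.1 b hb)).2 e)
    rw [code, code, Nat.eq_of_beq_eq_true (this 0 (by decide)), Nat.eq_of_beq_eq_true (this 1 (by decide)),
      Nat.eq_of_beq_eq_true (this 2 (by decide)), Nat.eq_of_beq_eq_true (this 3 (by decide))]))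
  rw [← List.length_map (evw ev), ← List.toFinset_card_of_nodup this, ← Set.ncard_coe_finset]
  congr 1
  ext g
  simp [eq_comm]
theorem list [Finite G] (X : Subgroup G) (L : List (List ℕ)) (h : nd L = true) (hm : ∀ w ∈ L, evw ev w ∈ X)
    (hc : Nat.card X ≤ L.length) : ∀ g ∈ X, ∃ w ∈ L, g = evw ev w := fun g hg =>
  (Set.eq_of_subset_of_ncard_le (s := {g | ∃ w ∈ L, g = evw ev w}) (t := X) (by rintro _ ⟨w, hw, rfl⟩; exact hm w hw)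
    (by rw [m.ncard L h]; exact hc)).ge hg
theorem card (X : Subgroup G) (L : List (List ℕ)) (h : nd L = true) (hm : ∀ w ∈ L, evw ev w ∈ X)
    (hl : ∀ g ∈ X, ∃ w ∈ L, g = evw ev w) : Nat.card X = L.length := by
  rw [← m.ncard L h, show {g | ∃ w ∈ L, g = evw ev w} = (X : Set G) from
    Set.Subset.antisymm (by rintro _ ⟨w, hw, rfl⟩; exact hm w hw) hl]
  rfl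
end Emb

theorem mN : Emb el := ⟨wp_inv 7 il rN, fun u v hu hv => ⟨RN.of_same bN (allLt_sound hu) (allLt_sound hv),
  RN.same_of (by decide) (allLt_sound hu) (allLt_sound hv)⟩⟩

def E4 : Subgroup N := Cx(el 0) ⊓ Cx(el 1) ⊓ (Cx(el 2) ⊓ Cx(el 3))
theorem E4_iff {g : N} : g ∈ E4 ↔ ∀ y ∈ [[0], [1], [2], [3]], evw el y * g = g * evw el y := by
  simp [E4, mem_Cx, eq_comm, and_assoc]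
theorem E4_list : ∀ g ∈ E4, ∃ w ∈ EW, g = evw el w := fun g hg =>
  RN.solve le_rfl bN kN ((card_le_card_group _).trans cN4) [] [[0], [1], [2], [3]] [] [] EW (by decide +kernel)
    (wp_top 7 il rN ▸ mem_top g) (E4_iff.1 hg) (by simp) (by simp)
theorem E4_nm (k : N) : k ∈ Nm(E4) := (wp_top 7 il rN).ge.trans (gensub_le (K := Nm(E4)) fun x hx =>
  mem_normalizer_of_cj_le (by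
    rintro _ ⟨g, hg, rfl⟩
    obtain ⟨w, hw, rfl⟩ := E4_list g hg
    refine E4_iff.2 fun y hy => ?_
    have := mN.cm ((by decide +kernel : ∀ x < 7, ∀ w ∈ EW, ∀ y ∈ [[0], [1], [2], [3]], cC y (cw [x] w) = true) x hx w hw y hy)
    rw [mN.cw (by simp [allLt, hx])] at this
    simpa using this)) (mem_top k)

theorem emb {G : Type*} [Group G] {ev : ℕ → G} (hi : ∀ x < 7, ev (il.getD x 0) = (ev x)⁻¹)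
    (hr : ∀ w ∈ rN, evw ev w = 1) (h0 : ev 0 ≠ 1) : Emb ev := by
  obtain ⟨φ, hφ⟩ := wp_hom 7 il rN (by decide +kernel) ev hi hr
  have a : ∀ g ∈ E4, φ g = 1 → g = 1 := fun g hg e => by
    obtain ⟨w, hw, rfl⟩ := E4_list g hg
    rcases (by decide +kernel : ∀ w ∈ EW, w = [] ∨ ∃ c ∈ L0, cJ c [0] w = true) w hw with rfl | ⟨c, -, h⟩
    · rfl
    · rw [← mN.cj h] at e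
      simp [hφ 0 (by decide), h0] at e
  have b : Function.Injective φ := (injective_iff_map_eq_one φ).2 fun k e => a k (E4_iff.2 fun y hy => by
    have s : evw el y ∈ E4 := E4_iff.2 fun z hz =>
      mN.cm ((by decide +kernel : ∀ z ∈ [[0], [1], [2], [3]], ∀ y ∈ [[0], [1], [2], [3]], cC z y = true) z hz y hy)
    have := a _ (mul_mem ((mem_normalizer_iff.1 (E4_nm k) _).1 s) (inv_mem s)) (by simp [e])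
    rw [mul_inv_eq_one, mul_inv_eq_iff_eq_mul] at this
    exact this.symm) e
  exact ⟨hi, fun u v hu hv => by
    rw [mN.iff u v hu hv, ← hom_evw hφ u (allLt_sound hu), ← hom_evw hφ v (allLt_sound hv), b.eq_iff]⟩
end CfH8.M2
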