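import Cfsg.Agent.OD.Pre
import Cfsg.Agent.H8.ONTS
import Cfsg.Agent.H8.ON4
/-! Automorphisms of the centraliser of a four-group. -/
set_option autoImplicit false
set_option maxRecDepth 100000
set_option Elab.async false
open CfH6 CfL
namespace CfH8.ON
def sigT : List (List ℕ) := [[0, 2, 0, 3, 3, 0, 2, 2], [1, 3, 1, 3, 0, 2, 0, 2, 2, 2, 0, 3, 4], [1, 2, 1, 3, 3, 3, 1, 3, 4], [3, 3, 0, 2, 2, 1, 2, 2, 1, 3, 0, 3, 0, 4], [1, 3, 1, 3, 3, 1, 2, 2]]
def LA : List ℕ := [0, 16, 26, 27, 30, 34, 41, 42, 44, 48, 55, 59, 67, 69, 88, 104, 105, 126, 136, 155, 156, 175, 177, 182, 185, 191, 193, 215, 225, 234, 242, 246, 280, 304, 305, 320, 332, 335, 337, 338, 375, 394, 398, 402, 405, 408, 413, 415, 416, 417, 420, 421, 433, 435, 437, 439, 456, 463, 465, 474, 490, 492, 500, 503]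
def LI : List ℕ := [1, 2, 16, 25, 31, 40, 46, 56, 57, 60, 61, 78, 81, 175, 177, 215, 234, 238, 239, 240, 243, 244, 247, 253, 284, 287, 290, 292, 294, 308, 326, 327, 334, 336, 359, 362, 365, 373, 382, 383, 384, 406, 409, 412, 414, 463, 500, 504, 505, 506, 507, 508, 509, 510, 511]
def LG : List ℕ := [3, 4, 29, 33, 45, 49, 88, 136, 256, 263, 322, 330, 380, 381, 389, 390, 407, 410, 433, 435, 439, 465, 492, 503]
def LR : List ℕ := [1, 2, 16, 25, 40, 81, 175, 177, 215, 234, 243, 463, 500]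
def LW : List ℕ := [0, 30, 55, 104]
def LV : List ℕ := [0, 1, 2, 3]
def RQ : List (List ℕ) := [[0, 3, 1, 3, 1, 0, 1, 2, 1, 2], [1, 3, 0, 3, 0, 1, 0, 2, 0, 2], [2, 0, 1, 2, 0, 1, 2, 0, 1, 2, 0, 1]]
noncomputable def rf (a : ℕ) : ℕ := pk1 (nat_lit 0xc500001f40000000000000001a10026c0000000000000000000000000000000004c4000000000000000003400075000000000000018e000000000000000000000000000000000000148017e0021803240000000000000000000000001e577000033152ce80172000000001ec0000280000053c000000078000000544000000000000000000000000000000000000000018000000000000000000000000000000000000000000000000000000000000000000000000000000000747ee00d880001a50000000000000000000000000690000000000000000000000000000000261da000000000000000000000000000000000000000000000000000022000000000000000000000000000000000000000000000000000000000000000000000000000b00000005300000000000000002bc000000000000000003d4000000000000000000005880000000000000000000000000000000000000000000000182003f0000000000033e00003d80000000002000e7800000000000000000000000000000000000000009c70800000000000000000000000000000000000000002a000000000000000000006d40000000000000000000000000000000000000000000032b180000000000000000000000000000000000370000000000000000000000000000000000000000110001d8000000000000000d980000000d00000000000001a40000000b6001143600000000000001a00000007200000db96000000000000000000000d7000000000000000000000000000000000000)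 9 511 a
noncomputable def inA (a : ℕ) : Bool := Nat.beq (pk1 (nat_lit 0x9014000402810000aa0033a124440000800000000690010003000001000000004404020080000282428000180001004000030001000028088116044c010001) 1 1 a) 1
noncomputable def evN (f : List ℕ) (w : List ℕ) : ℕ := List.rec 0 (fun l _ ih => TS.mul (f.getD l 0) ih) w
noncomputable def thN (f : List ℕ) (q : ℕ) : ℕ := evN f (TS.wl q)
noncomputable def stN (f : List ℕ) (a : ℕ) : ℕ := frc a fun a => Bool.rec 512 (thN f (rf a)) (inA a)
noncomputable def hN (f : List ℕ) (a : ℕ) : ℕ := thN f (TS.mul (TS.mul 5 a) 5)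
noncomputable def cj3 (a b c a' b' c' q : ℕ) : Bool :=
  bnd (Nat.beq (TS.mul a q) (TS.mul q a')) (bnd (Nat.beq (TS.mul b q) (TS.mul q b')) (Nat.beq (TS.mul c q) (TS.mul q c')))
noncomputable def H1 (f : List ℕ) : Bool :=
  frc (stN f (stN f (stN f (stN f 155)))) fun b1 => frc (stN f (stN f (stN f (stN f 104)))) fun b2 =>
  frc (stN f (stN f (stN f (stN f 242)))) fun b3 =>
  imp (bnd (Nat.blt b1 512) (bnd (Nat.blt b2 512) (bnd (Nat.blt b3 512) (bnd (Nat.beq (TS.mul b1 b1) 500)
    (bnd (Nat.beq (TS.mul b2 b2) 234) (Nat.beq (TS.mul b3 b3) 175))))))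
    (bnd (Nat.beq b1 155) (bnd (Nat.beq b2 104) (Nat.beq b3 242)))
noncomputable def H2 (c d g : ℕ) (f : List ℕ) : Bool :=
  frc (thN f c) fun a => frc (thN f d) fun b => frc (thN f g) fun e => LA.any (cj3 a b e 1 2 3)
noncomputable def H3 (f : List ℕ) : Bool := imp (Nat.beq (hN f (hN f (hN f 175))) 175)
  (frc (hN f (hN f (hN f 1))) fun a => frc (hN f (hN f (hN f 2))) fun b => frc (hN f (hN f (hN f 3))) fun e =>
    LA.any (cj3 a b e 1 2 3))
noncomputable def Cn (c d g : ℕ) (f : List ℕ) : Bool :=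
  bor (LW.any (cj3 c d g 2 1 3)) (LW.any (cj3 (thN f 1) (thN f 326) (thN f 45) 326 1 45))
noncomputable def chkG (c d g : ℕ) : Bool := frc (TS.inv g) fun G =>
  imp (Nat.beq (thN [c, d, g, G] 175) 175) (imp (Nat.beq (thN [c, d, g, G] 500) 234)
  (imp (Nat.beq (thN [c, d, g, G] 234) 500) (imp (RQ.all fun r => Nat.beq (evN [c, d, g, G] r) 0)
  (imp (H1 [c, d, g, G]) (imp (H2 c d g [c, d, g, G]) (imp (H3 [c, d, g, G]) (Cn c d g [c, d, g, G])))))))
noncomputable def chkD (c d : ℕ) : Bool := frc (TS.mul c d) fun p => frc (TS.mul p p) fun p =>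
  imp (Nat.beq (TS.mul p p) 16) (LG.all (chkG c d))
theorem chk_theta : (LR.all fun c => LI.all (chkD c)) = true := by decide +kernel
theorem chk_rho : allN (fun a => imp (inA a) (bnd (Nat.blt (rf a) 512) (bnd (Nat.beq (TS.mul (rf a) 234) (TS.mul 234 (rf a)))
    (cC (Yw.getD 7 []) (wpow wq 0) (kss wp) ([1, 2, 0, 3, 0] ++ subst sigT (TS.wl a) ++ [1, 2, 1, 3, 0] ++
      subst sigT (TS.wl (TS.inv (rf a)))))))) 512 = true := by decide +kernel
def sig0 : List (List ℕ) := [[1, 2, 1, 3, 3, 3, 1, 3, 4], [3, 3, 0, 2, 2, 1, 2, 2, 1, 3, 0, 3, 0, 4], [0, 3, 3, 0, 2, 2, 1, 3, 1, 3], [0, 2, 1, 2, 0, 2, 1, 3, 0, 3], [0, 2, 0, 3, 3, 0, 2, 2], [1, 3, 1, 3, 0, 2, 0, 2, 2, 2, 0, 3, 4], [], [0, 2, 2, 2, 1, 3, 0, 2, 2, 2, 1, 3]]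
def sig1 : List (List ℕ) := [[1, 2, 1, 3, 0, 2, 2, 0, 2, 4], [0, 2, 1, 2, 1, 2, 2, 2, 1, 2, 2, 0, 3, 4], [0, 3, 3, 0, 2, 2, 1, 3, 1, 3], [0, 2, 1, 2, 0, 2, 1, 3, 0, 3], [0, 2, 0, 3, 3, 0, 2, 2], [1, 2, 0, 2, 1, 3, 1, 2, 2, 0, 3, 4], [], [0, 2, 2, 2, 1, 3, 0, 2, 2, 2, 1, 3]]

end CfH8.ON
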