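import Cfsg.Agent.H5.R3
/-! Elements of order `77` in a simple group of order `10200960`. -/
set_option autoImplicit false
open Cfsg CfH4 CfH4.GA CfH9 CfH4.D1 CfH4.PA CfH8.PA CfH8.MG CfH1.MG CfH5.M23 Subgroup
namespace CfH8.QB
variable {G : Type*} [Group G] [Finite G]

theorem ar0 : ∀ k ∈ Nat.divisors 5760, ∀ b ∈ Nat.divisors 5760, ∀ n ∈ [18, 40, 128, 5760], k ∣ n → n / k % 7 = 1 →
    k * b ∣ 5760 → b % 11 = 1 → 23 * (5760 / (k * b)) % 7 = 1 → k * b = 5 ∨ k * b = 40 := by decide +kernel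

theorem ar {D a b i m : ℕ} (hm : m ∈ [126, 280, 896, 40320]) (h1 : D * a = 11 * m) (h2 : 77 ∣ D) (h3 : D * b * i = 10200960)
    (a7 : a % 7 = 1) (b11 : b % 11 = 1) (i7 : i % 7 = 1) (i23 : 23 ∣ i) : D * b = 385 ∨ D * b = 3080 := by
  obtain ⟨k, rfl⟩ := h2
  obtain ⟨i, rfl⟩ := i23
  have k1 : k * b * i = 5760 := by linarith
  have k2 : k * a ∈ [18, 40, 128, 5760] := by
    rw [mul_assoc] at h1
    simp only [List.mem_cons, List.not_mem_nil, or_false] at hm ⊢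
    omega
  have k0 : 0 < k * b := Nat.pos_of_ne_zero fun c => by simp [c] at k1
  have := ar0 k (Nat.mem_divisors.2 ⟨⟨b * i, by rw [← k1, mul_assoc]⟩, by norm_num⟩) b
    (Nat.mem_divisors.2 ⟨⟨k * i, by rw [← k1]; ring⟩, by norm_num⟩) _ k2 (Dvd.intro _ rfl)
    (by rwa [Nat.mul_div_cancel_left _ (Nat.pos_of_mul_pos_right k0)]) (Dvd.intro _ k1) b11
    (by rwa [← k1, Nat.mul_div_cancel_left _ k0])
  rw [mul_assoc]; omega

theorem sq2 : ∀ C ∈ [1540], ∀ d < 385, 1 < d → d ∣ 10200960 → d + 1 ∣ 10200960 →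
    Nat.sqrt (C * 10200960 * (d * (d + 1))) * Nat.sqrt (C * 10200960 * (d * (d + 1))) ≠ C * 10200960 * (d * (d + 1)) := by
  decide +kernel

theorem d385 {d : ℕ} (d2 : d ∣ 10200960) (d3 : d + 1 ∣ 10200960) : d < 385 := by
  have := Nat.le_of_dvd (by norm_num) (Nat.Coprime.mul_dvd_of_dvd_of_dvd (by simp) d2 d3)
  have d4 : d < 3194 := by nlinarith
  have d5 := dlt (d / 57) (by omega) (d % 57) (by omega)
  rw [Nat.div_add_mod] at d5
  exact d5 d2 d3

theorem no7 [IsSimpleGroup G] (hG : Nat.card G = 10200960) (c23 : CfLm.CN G 23 23 253) {w : G} (hw : orderOf w = 11)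
    {m : ℕ} (hm : m ∈ [126, 280, 896, 40320]) (hN : Nat.card Nm(zpowers w) = 11 * m) : ¬ 7 ∣ Nat.card Cx(w) := fun d => by
  have : Fact (Nat.Prime 23) := ⟨by norm_num⟩
  obtain ⟨⟨y, hy⟩, yo⟩ := exists_prime_orderOf_dvd_card' (G := Cx(w)) 7 d
  replace yo : orderOf y = 7 := (orderOf_coe _).trans yo
  have y1 : y ∈ Nm(zpowers w) := (Cz_zpowers w ▸ centralizer_le_normalizer _ : Cx(w) ≤ _) hy
  have z1 : w ∈ Nm(zpowers y) := (Cz_zpowers y ▸ centralizer_le_normalizer _ : Cx(y) ≤ _) (mem_Cx.2 (mem_Cx.1 hy).symm)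
  have a := syl_mod (sylz yo (by rw [hG]; norm_num) y1)
  have b := syl_mod (sylz hw (by rw [hG]; norm_num) z1)
  have i := syl_mod (sylz yo (by rw [hG]; norm_num) (mem_top y))
  rw [relIndex_top_right] at i
  obtain ⟨K, k1, -, k2, k3, -, -, -, -, k4⟩ := g5 (p := 7) (by norm_num) (by rw [hG]; norm_num) (by rw [hG]; norm_num) yo
  have n := card_Nm_zp (by norm_num) yo
  have n23 := ndv (by rw [hG]; norm_num) (by rw [hG]; norm_num) c23 yo (by norm_num)
  change e 7 y ∣ _ at k2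
  change 1 < e 7 y at k3
  change _ = e 7 y * _ at n
  have he : e 7 y = 2 ∨ e 7 y = 3 ∨ e 7 y = 6 := by
    have := Nat.le_of_dvd (by norm_num) k2
    generalize e 7 y = t at *
    interval_cases t <;> omega
  have r := ar hm ((ri _ _).trans hN) ((by norm_num : Nat.Coprime 11 7).mul_dvd_of_dvd_of_dvd
    (hw ▸ orderOf_dvd_natCard _ ⟨le_normalizer (mem_zpowers w), z1⟩)
    (yo ▸ orderOf_dvd_natCard _ ⟨y1, le_normalizer (mem_zpowers y)⟩)) (by rw [inf_comm, ri, card_mul_index, hG]) a b i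
    (((Nat.Prime.dvd_mul (by norm_num)).1 (by rw [card_mul_index, hG]; norm_num :
      23 ∣ Nat.card Nm(zpowers y) * Nm(zpowers y).index)).resolve_left (by rw [n]; rcases he with k | k | k <;> rw [k] <;> omega))
  rw [inf_comm, ri, n] at r
  obtain ⟨k5, k6⟩ : e 7 y = 2 ∧ Nat.card Cx(y) = 1540 := by rcases he with k | k | k <;> rw [k] at r ⊢ <;> omega
  obtain ⟨d, d1, d2, d3, c⟩ := core2 (ncm (by rw [hG]; norm_num)) (by rw [hG]; norm_num) (p := 7) (by norm_num) ⟨yo, k4⟩ k5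
  rw [k6, hG] at c
  rw [hG] at d2 d3
  exact sq2 _ (by simp) d (d385 d2 d3) d1 d2 d3 ((Nat.exists_mul_self _).1 c)
end CfH8.QB
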