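import Cfsg.Agent.OD.Pre
import Cfsg.Agent.H8.W3a
import Cfsg.Agent.H7.QT3

/-!
# The pushing-up theorem for an orbit of components
-/

set_option autoImplicit false
set_option linter.unusedSectionVars false

namespace CfH8.W

open Subgroup MulAction CfH9 Cfsg
open scoped commutatorElement
open CfH7 (OZ ChP SubnIn nclo RedOn UMax)

universe u

variable {G : Type*} [Group G] [Finite G]

section sep

variable {T L K K' : Subgroup G} (h : LL T L) (hK : JC (JJ 2 T) K) (hKL : K ≤ L)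
  (hK' : JC (JJ 2 T) K') (hKL' : K' ≤ L)
include h hK hKL hK' hKL'

theorem b_sep (hne : K ≠ K') : ∃ a ∈ JJ 2 T,
    (⁅K, zpowers a⁆ ≤ Cz(ZL L) ∧ ¬ ⁅K', zpowers a⁆ ≤ Cz(ZL L)) ∨
    (⁅K', zpowers a⁆ ≤ Cz(ZL L) ∧ ¬ ⁅K, zpowers a⁆ ≤ Cz(ZL L)) := by
  have hLZ := CfH7.le_Nm_OZ_pCoreOf (p := 2) L
  have hne' : hb (ZL L) K ≠ hb (ZL L) K' := fun e => hne (comp_eq_of_hb_eq h hK hKL hK' hKL' e)
  obtain ⟨A, hA, hAK⟩ : ∃ A, MaxEl 2 A T ∧ ¬ hb (ZL L) A ≤ Cz(hb (ZL L) K) := by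
    by_contra hc
    push Not at hc
    have h1 : hb (ZL L) (JJ 2 T) ≤ Cz(hb (ZL L) K) := by
      rw [hb_le_iff (h.J_le.trans hLZ), J_le_iff]
      intro A hA
      rw [← hb_le_iff ((hA.le.trans h.syl.le).trans hLZ)]
      exact hc A hA
    rw [← CfH7.comm_eq_bot_right, ← hb_commutator (hKL.trans hLZ) (h.J_le.trans hLZ), hK.comm,
      hb_eq_bot_iff (hKL.trans hLZ)] at h1
    exact comp_not_le_C h hK hKL h1
  have hAL := hA.le.trans h.syl.le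
  obtain ⟨x, hx, hsep⟩ := exists_separating (elemAb_VL L) (RL_nil L) (h.odd_RL) (RL_le_Nm L)
    (RL_faithful L) (elemAb_hb hA.el) (hb_le_Nm_hv_self _) (h.best hA) (hb_le_Nm_RL hAL)
    (comp_le_RL h hK hKL) (comp_dd h hK hKL) (comp_le_RL h hK' hKL')
    (comp_dd h hK' hKL') hne' hAK
  obtain ⟨a, ha, rfl⟩ := mem_hb.1 hx
  have key : ∀ X : Subgroup G, X ≤ L →
      (holA (ZL L) a ∈ Cz(hb (ZL L) X) ↔ ⁅X, zpowers (a : G)⁆ ≤ Cz(ZL L)) := fun X hX => by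
    have haL : zpowers (a : G) ≤ L := zpowers_le.2 (hAL ha)
    rw [← zpowers_le, ← hb_zpowers, ← CfH7.comm_eq_bot_right,
      ← hb_commutator (hX.trans hLZ) (haL.trans hLZ),
      hb_eq_bot_iff ((commutator_le_self' hX haL).trans hLZ)]
  rw [key K hKL, key K' hKL'] at hsep
  refine ⟨a, hA.le_J ha, ?_⟩
  rcases hsep with ⟨h1, h2⟩ | ⟨h1, h2⟩
  · exact Or.inl ⟨h1, h2⟩
  · exact Or.inr ⟨h2, h1⟩

/-- a subgroup over `T` containing `k k'` with `k' ∉ O₂(K')` contains `K'` -/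
theorem b_le {X : Subgroup G} (hX : T ≤ X) {a : G} (ha : a ∈ JJ 2 T)
    (h1 : ⁅K, zpowers a⁆ ≤ Cz(ZL L)) (h2 : ¬ ⁅K', zpowers a⁆ ≤ Cz(ZL L)) {k k' : G} (hk : k ∈ K)
    (hk' : k' ∈ K') (hn : k' ∉ pCoreOf 2 K') (hy : k * k' ∈ X) : K' ≤ X := by
  have hO := (comp_pCoreOf_le h hK hKL).trans h.Q_le
  have hO' := (comp_pCoreOf_le h hK' hKL').trans h.Q_le
  have haX : a ∈ X := hX (J_le T ha)
  have hN : K ≤ Nm(K') := comp_le_Nm h hK' hKL' hK hKL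
  have c1 : ⁅k, a⁆ ∈ X := by
    refine hX (hO ?_)
    rw [← comp_inf_C h hK hKL]
    have := commutator_mem_commutator hk (mem_zpowers a)
    exact ⟨CfH7.comm_le_left ((zpowers_le.2 ha).trans hK.le_Nm) this, h1 this⟩
  have c2 : ⁅k', a⁆ ∈ K' := CfH7.comm_le_left ((zpowers_le.2 ha).trans hK'.le_Nm)
    (commutator_mem_commutator hk' (mem_zpowers a))
  have c3 : k * ⁅k', a⁆ * k⁻¹ ∈ X := by
    have e : k * ⁅k', a⁆ * k⁻¹ = (k * k') * a * (k * k')⁻¹ * a⁻¹ * ⁅k, a⁆⁻¹ := by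
      simp only [commutatorElement_def]; group
    rw [e]
    exact X.mul_mem (X.mul_mem (X.mul_mem (X.mul_mem hy haX) (X.inv_mem hy)) (X.inv_mem haX))
      (X.inv_mem c1)
  by_contra hc
  have e := hK'.inf_eq (hO'.trans hX) hc
  have c4 : k * ⁅k', a⁆ * k⁻¹ ∈ pCoreOf 2 K' := by
    rw [← e]
    exact ⟨(mem_normalizer_iff.1 (hN hk) _).1 c2, c3⟩
  have c5 : ⁅k', a⁆ ∈ pCoreOf 2 K' :=
    (mem_normalizer_iff.1 (CfH7.normalizer_le_normalizer_pCoreOf (p := 2) K' (hN hk)) _).2 c4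
  apply h2
  have e2 : pCoreOf 2 K' ⊔ zpowers k' = K' :=
    (hK'.eq_or_eq le_sup_left (sup_le (CfH7.pCoreOf_le _) (zpowers_le.2 hk'))).resolve_left
      fun e => hn (e ▸ mem_sup_right (mem_zpowers k'))
  have hZ : L ≤ Nm(L ⊓ Cz(ZL L)) := le_Nm_CL L
  have hOC : pCoreOf 2 K' ≤ L ⊓ Cz(ZL L) :=
    le_inf ((CfH7.pCoreOf_le _).trans hKL') ((comp_pCoreOf_le h hK' hKL').trans (CfH7.le_Cz_OZ _))
  have haL : zpowers a ≤ L := (zpowers_le.2 ha).trans h.J_le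
  refine le_trans ?_ (inf_le_right : L ⊓ Cz(ZL L) ≤ _)
  rw [← e2]
  refine CfH7.commutator_sup_left_le (((CfH7.pCoreOf_le _).trans hKL').trans hZ)
    ((zpowers_le.2 (hKL' hk')).trans hZ) ?_ ?_
  · exact (Subgroup.commutator_mono hOC le_rfl).trans (CfH7.comm_le_left (haL.trans hZ))
  · exact commutator_zpowers_le (hZ (hKL' hk')) (hZ (haL (mem_zpowers a))) (hOC c5)

end sep

section orb

variable {T K K₂ : Subgroup G} (g : GH T) (o : Orb T K K₂)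
include g o

theorem b_O : pCoreOf 2 K ≤ T := (comp_pCoreOf_le (o.ll g) o.jc o.le₁).trans (o.ll g).Q_le

theorem b_N : K₂ ≤ Nm(K) := comp_le_Nm (o.ll g) o.jc o.le₁ o.jc₂ o.le₂

theorem b_both {X : Subgroup G} (hX : T ≤ X) (h : K ≤ X) : K ⊔ K₂ ⊔ T ≤ X := by
  obtain ⟨t, ht, e⟩ := o.ex
  refine sup_le (sup_le h ?_) hX
  rw [← e]
  exact (cj_mono t h).trans (cj_eq_of_mem (hX ht)).le

theorem b_umax : UMax T (K ⊔ K₂ ⊔ T) T := by
  refine ⟨le_rfl, lt_of_le_of_ne le_sup_right fun e => o.jc.not_le g.pgrp (o.le₁.trans e.ge),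
    fun X hX hlt x hx => ?_⟩
  have n1 : ¬ K ≤ X := fun e => hlt.not_ge (b_both g o hX e)
  have n2 : ¬ K₂ ≤ X := fun e => hlt.not_ge (by rw [sup_comm K]; exact b_both g o.swap hX e)
  obtain ⟨y, hy, t, ht, rfl⟩ := (mem_sup_of_le_Nm' o.T_le_Nm).1 (hlt.le hx)
  have hyX : y ∈ X := by simpa using X.mul_mem hx (X.inv_mem (hX ht))
  refine T.mul_mem ?_ ht
  have O1 := b_O g o
  have O2 := b_O g o.swap
  have i1 := o.jc.inf_eq (O1.trans hX) n1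
  have i2 := o.jc₂.inf_eq (O2.trans hX) n2
  by_cases hne : K = K₂
  · subst hne
    rw [sup_idem] at hy
    exact O1 (i1 ▸ ⟨hy, hyX⟩)
  obtain ⟨a, ha, hs | hs⟩ := b_sep (o.ll g) o.jc o.le₁ o.jc₂ o.le₂ hne
  · obtain ⟨k, hk, k', hk', rfl⟩ := (mem_sup_of_le_Nm' (b_N g o)).1 hy
    have h' : k' ∈ pCoreOf 2 K₂ := by
      by_contra hn
      exact n2 (b_le (o.ll g) o.jc o.le₁ o.jc₂ o.le₂ hX ha hs.1 hs.2 hk hk' hn hyX)
    have : k ∈ X := by simpa using X.mul_mem hyX (X.inv_mem (hX (O2 h')))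
    exact T.mul_mem (O1 (i1 ▸ ⟨hk, this⟩)) (O2 h')
  · rw [sup_comm] at hy
    obtain ⟨k, hk, k', hk', rfl⟩ := (mem_sup_of_le_Nm' (b_N g o.swap)).1 hy
    have h' : k' ∈ pCoreOf 2 K := by
      by_contra hn
      exact n1 (b_le (o.ll g) o.jc₂ o.le₂ o.jc o.le₁ hX ha hs.1 hs.2 hk hk' hn hyX)
    have : k ∈ X := by simpa using X.mul_mem hyX (X.inv_mem (hX (O1 h')))
    exact T.mul_mem (O2 (i2 ▸ ⟨hk, this⟩)) (O1 h')

theorem b_res : pResidualOf 2 (K ⊔ K₂ ⊔ T) = K ⊔ K₂ := by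
  rw [CfH7.pResidualOf_sup_of_isPGroup g.pgrp o.T_le_Nm]
  refine le_antisymm (CfH7.pResidualOf_le _) (sup_le ?_ ?_)
  · exact o.jc.res.ge.trans (CfH7.pResidualOf_mono le_sup_left)
  · exact o.jc₂.res.ge.trans (CfH7.pResidualOf_mono le_sup_right)

theorem b_two {Y : Subgroup G} (hY : IsPGroup 2 Y) (hle : Y ≤ K ⊔ K₂) :
    Y ≤ pCoreOf 2 K ⊔ pCoreOf 2 K₂ := by
  set S := pCoreOf 2 K ⊔ pCoreOf 2 K₂ with hSdef
  have N1 : K ⊔ K₂ ≤ Nm(K) := sup_le le_normalizer (b_N g o)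
  have N2 : K ⊔ K₂ ≤ Nm(K₂) := sup_le (b_N g o.swap) le_normalizer
  have hSE : S ≤ K ⊔ K₂ := sup_le_sup (CfH7.pCoreOf_le _) (CfH7.pCoreOf_le _)
  have hS : IsPGroup 2 S := g.pgrp.to_le (sup_le (b_O g o) (b_O g o.swap))
  have i1 := idx3 o.jc hS (hSE.trans N1) le_sup_left
  have hA : K ⊔ S ≤ K ⊔ K₂ := sup_le le_sup_left hSE
  have e : (K ⊔ S) ⊔ K₂ = K ⊔ K₂ := le_antisymm (sup_le hA le_sup_right)
    (sup_le_sup_right le_sup_left _)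
  have h1 := card_sup_mul_card_inf (A := K ⊔ S) (B := K₂) (hA.trans N2)
  rw [e, ← card_mul_relIndex hA, ← card_mul_relIndex (inf_le_right : (K ⊔ S) ⊓ K₂ ≤ K₂),
    mul_assoc, mul_comm ((K ⊔ S).relIndex _)] at h1
  have h2 := Nat.eq_of_mul_eq_mul_left Nat.card_pos
    (Nat.eq_of_mul_eq_mul_left Nat.card_pos h1)
  have h3 : ((K ⊔ S) ⊓ K₂).relIndex K₂ ∣ 3 := by
    rw [← o.jc₂.idx]
    exact relIndex_dvd_of_le_left _
      (le_inf (le_sup_right.trans le_sup_right) (CfH7.pCoreOf_le _))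
  have h4 : S.relIndex (K ⊔ K₂) ∣ 9 := by
    rw [← relIndex_mul_relIndex _ _ _ (le_sup_right : S ≤ K ⊔ S) hA, i1, h2]
    exact Nat.mul_dvd_mul_left 3 h3
  have syl : SylIn 2 S (K ⊔ K₂) :=
    sylIn_of_not_dvd hSE hS fun e => absurd (e.trans h4) (by decide)
  refine syl.le_of_le_Nm' hY hle (hle.trans fun x hx => ?_)
  exact mem_Nm_sup (CfH7.normalizer_le_normalizer_pCoreOf K (N1 hx))
    (CfH7.normalizer_le_normalizer_pCoreOf K₂ (N2 hx))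

theorem b_syl {R : Subgroup G} (hRT : R ≤ T) (hO : pCoreOf 2 K ⊔ pCoreOf 2 K₂ ≤ R) :
    SylIn 2 R (K ⊔ K₂ ⊔ R) := by
  refine ⟨le_sup_right, g.pgrp.to_le hRT, fun Q hQ hQE hRQ x hx => ?_⟩
  obtain ⟨y, hy, r, hr, rfl⟩ := (mem_sup_of_le_Nm' (hRT.trans o.T_le_Nm)).1 (hQE hx)
  have hyQ : y ∈ Q := by simpa using Q.mul_mem hx (Q.inv_mem (hRQ hr))
  exact R.mul_mem (hO (b_two g o (hQ.to_le (inf_le_left : Q ⊓ (K ⊔ K₂) ≤ Q)) inf_le_right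
    ⟨hyQ, hy⟩)) hr

end orb

theorem b_uu {T : Subgroup G} (g : GH T) : UU T := by
  intro K K₂ M₀ R o hM _ hR hRT hO hN
  obtain ⟨X, h1, h2, h3⟩ := CfH7.common_normal g.syl (fun L a b => (g.loc L a b).2) hM
    (b_umax g o) o.loc hR hRT (by rw [b_res g o]; exact b_syl g o hRT hO) hN
  exact ⟨X, h1, h2, le_sup_left.trans h3, (o.le₁.trans le_sup_right).trans h3⟩

theorem p0 : P0.{u} := fun _ _ _ g => b_uu g

end CfH8.W
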